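import Cfsg.Agent.Lib.AutPSp.Rigid
import Cfsg.Agent.Lib.PCore.Basic
import Cfsg.Agent.S0247

/-!
The `p'`-core of the centraliser of a field automorphism of `PSp` of order `p`.
-/

set_option autoImplicit false
set_option linter.unusedSectionVars false

namespace Cfsg.Agent.AutPSp

open Matrix Cfsg
open Cfsg.Agent.Fusion.SympBlocks

universe u

variable {m : ℕ} {F : Type u} [Field F] [Fintype F]

local notation "Vv" => (Fin m ⊕ Fin m → F)
local notation "M2" => Matrix (Fin m ⊕ Fin m) (Fin m ⊕ Fin m) F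
local notation "Sp" => Matrix.symplecticGroup (Fin m) F
local notation "GS" => Cfsg.GSp m F

/-- The points of `PSp` fixed by an automorphism. -/
def fixPts (x : MulAut (PSp m F)) : Subgroup (PSp m F) :=
  MonoidHom.eqLocus x.toMonoidHom (MonoidHom.id (PSp m F))

theorem mem_fixPts {x : MulAut (PSp m F)} {k : PSp m F} : k ∈ fixPts x ↔ x k = k := Iff.rfl

theorem mul_conj (β : MulAut (PSp m F)) (k : PSp m F) : β * MulAut.conj k = MulAut.conj (β k) * β :=
  MulEquiv.ext fun y => by simp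

theorem conj_injective (hm : 2 ≤ m) : Function.Injective (MulAut.conj : PSp m F → MulAut (PSp m F)) := by
  refine (injective_iff_map_eq_one _).2 fun k hk => ?_
  obtain ⟨s, rfl⟩ := QuotientGroup.mk_surjective k
  rw [← conjQ_toGS] at hk
  obtain ⟨z, hz⟩ := (conjQ_eq_one_iff hm _).1 hk
  refine (QuotientGroup.eq_one_iff s).2 (mem_center_of_scalar (a := (z : F)) fun v => ?_)
  rw [← toGS_coe, ← hz, scalGS_mulVec]

variable {F₀ : Type*} [Field F₀] [Fintype F₀]

/-- Symplectic groups along a field homomorphism. -/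
def embSp (ι : F₀ →+* F) : Matrix.symplecticGroup (Fin m) F₀ →* Sp where
  toFun w := ⟨(w : Matrix (Fin m ⊕ Fin m) (Fin m ⊕ Fin m) F₀).map ι, by
    rw [SymplecticGroup.mem_iff]
    have h := congrArg (fun M : Matrix (Fin m ⊕ Fin m) (Fin m ⊕ Fin m) F₀ => M.map ι) (SymplecticGroup.mem_iff.1 w.2)
    simp only [Matrix.map_mul, J_map'] at h
    exact h⟩
  map_one' := Subtype.ext (Matrix.map_one _ (map_zero ι) (map_one ι))
  map_mul' _ _ := Subtype.ext Matrix.map_mul

theorem embSp_injective (ι : F₀ →+* F) : Function.Injective (embSp (m := m) ι) := fun _ _ h =>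
  Subtype.ext (Matrix.map_injective ι.injective (congrArg Subtype.val h))

variable (σ : F ≃+* F)

local notation "F₁" => FieldExt.fixedField σ

/-- The rational points. -/
def rat : Matrix.symplecticGroup (Fin m) F₁ →* fixPts (fieldQ σ : MulAut (PSp m F)) :=
  ((QuotientGroup.mk' (Subgroup.center Sp)).comp (embSp (FieldExt.fixedField σ).subtype)).codRestrict _ fun w => by
    rw [mem_fixPts]
    show fieldQ σ (QuotientGroup.mk _) = QuotientGroup.mk _
    rw [fieldQ_mk]
    exact congrArg QuotientGroup.mk (Subtype.ext (Matrix.ext fun i j => FieldExt.mem_fixedField.1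
      ((w : Matrix (Fin m ⊕ Fin m) (Fin m ⊕ Fin m) F₁) i j).2))

theorem rat_coe (w : Matrix.symplecticGroup (Fin m) F₁) :
    ((rat σ w : fixPts (fieldQ σ : MulAut (PSp m F))) : PSp m F) =
      QuotientGroup.mk (embSp (FieldExt.fixedField σ).subtype w) := rfl

theorem mem_range_rat {s : Sp} (hs : (s : M2).map σ = s) {k : fixPts (fieldQ σ : MulAut (PSp m F))}
    (hk : (k : PSp m F) = QuotientGroup.mk s) : k ∈ (rat σ).range := by
  let A : Matrix (Fin m ⊕ Fin m) (Fin m ⊕ Fin m) F₁ :=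
    Matrix.of fun i j => ⟨(s : M2) i j, FieldExt.mem_fixedField.2 (congrFun (congrFun hs i) j)⟩
  have hA : A.map (FieldExt.fixedField σ).subtype = (s : M2) := rfl
  have hmem : A ∈ Matrix.symplecticGroup (Fin m) F₁ := by
    rw [SymplecticGroup.mem_iff]
    refine Matrix.map_injective (FieldExt.fixedField σ).subtype.injective ?_
    simp only [Matrix.map_mul, ← Matrix.transpose_map, J_map', hA]
    exact SymplecticGroup.mem_iff.1 s.2
  exact ⟨⟨A, hmem⟩, Subtype.ext hk.symm⟩

/-- A fixed point has a representative moved by a central element. -/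
theorem exists_center_of_fix (k : fixPts (fieldQ σ : MulAut (PSp m F))) :
    ∃ s : Sp, ∃ z ∈ Subgroup.center Sp, (k : PSp m F) = QuotientGroup.mk s ∧ fieldS σ s = s * z := by
  obtain ⟨s, hs⟩ := QuotientGroup.mk_surjective (k : PSp m F)
  have e : fieldQ σ (QuotientGroup.mk s : PSp m F) = QuotientGroup.mk s := by rw [hs]; exact k.2
  rw [fieldQ_mk] at e
  exact ⟨s, s⁻¹ * fieldS σ s, QuotientGroup.eq.1 e.symm, hs.symm, (mul_inv_cancel_left _ _).symm⟩

theorem conj_rat_mem (k : fixPts (fieldQ σ : MulAut (PSp m F))) (w : Matrix.symplecticGroup (Fin m) F₁) :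
    k * rat σ w * k⁻¹ ∈ (rat σ).range := by
  obtain ⟨s, z, hz, hks, hσ⟩ := exists_center_of_fix σ k
  refine mem_range_rat σ (s := s * embSp (FieldExt.fixedField σ).subtype w * s⁻¹) ?_ ?_
  · have hw : fieldS σ (embSp (FieldExt.fixedField σ).subtype w : Sp) = embSp (FieldExt.fixedField σ).subtype w :=
      Subtype.ext (Matrix.ext fun i j => FieldExt.mem_fixedField.1
        ((w : Matrix (Fin m ⊕ Fin m) (Fin m ⊕ Fin m) F₁) i j).2)
    have e : fieldS σ (s * embSp (FieldExt.fixedField σ).subtype w * s⁻¹) =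
        s * embSp (FieldExt.fixedField σ).subtype w * s⁻¹ := by
      rw [map_mul, map_mul, map_inv, hw, hσ, _root_.mul_inv_rev, mul_assoc s z,
        ← Subgroup.mem_center_iff.1 hz (embSp (FieldExt.fixedField σ).subtype w)]
      group
    exact congrArg Subtype.val e
  · rw [Subgroup.coe_mul, Subgroup.coe_mul, Subgroup.coe_inv, hks, rat_coe, QuotientGroup.mk_mul,
      QuotientGroup.mk_mul, QuotientGroup.mk_inv]

theorem sq_mem_range (hm : 2 ≤ m) (k : fixPts (fieldQ σ : MulAut (PSp m F))) : k * k ∈ (rat σ).range := by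
  haveI : Fact (2 ≤ m) := ⟨hm⟩
  obtain ⟨s, z, hz, hks, hσ⟩ := exists_center_of_fix σ k
  refine mem_range_rat σ (s := s * s) ?_ (by rw [Subgroup.coe_mul, hks, QuotientGroup.mk_mul])
  have hzz : z * z = 1 := by
    obtain ⟨a, ha, rfl⟩ := center_eq hz
    exact scal_mul_scal a ha
  have e : fieldS σ (s * s) = s * s := by
    rw [map_mul, hσ, mul_assoc s z, ← Subgroup.mem_center_iff.1 hz, mul_assoc s z, hzz, mul_one]
  exact congrArg Subtype.val e

theorem mk_eq_one {s : Sp} (h : (QuotientGroup.mk s : PSp m F) = 1) : ∃ a : F, ∀ v : Vv, (s : M2) *ᵥ v = a • v :=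
  exists_scalar ((QuotientGroup.eq_one_iff s).1 h)

theorem rat_center (hm : 2 ≤ m) {w : Matrix.symplecticGroup (Fin m) F₁} (hw : w ∈ Subgroup.center _) :
    rat σ w = 1 := by
  haveI : Fact (2 ≤ m) := ⟨hm⟩
  haveI : Fintype F₁ := Fintype.ofFinite _
  obtain ⟨a, ha, rfl⟩ := center_eq hw
  refine Subtype.ext ((QuotientGroup.eq_one_iff _).2 ?_)
  have ha' : ((a : F₁) : F) * (a : F) = 1 := congrArg Subtype.val ha
  convert scal_central (m := m) (F := F) (a : F) ha'
  refine Subtype.ext (Matrix.ext fun i j => ?_)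
  rcases i with i | i <;> rcases j with j | j <;>
    simp [embSp, scal, Fusion.SympBlocks.ofBlocks, Matrix.one_apply] <;>
    split_ifs <;> simp

/-- The fixed field of a fixed field. -/
theorem normal_le_center_or_sq (hm : 2 ≤ m) (N : Subgroup (Matrix.symplecticGroup (Fin m) F₀)) [N.Normal] :
    N ≤ Subgroup.center _ ∨ ∀ w, w * w ∈ N := by
  classical
  by_cases h : 3 ≤ m ∨ (m = 2 ∧ 3 ≤ Fintype.card F₀) ∨ 4 ≤ Fintype.card F₀
  · rcases ClassicalSimple.symplectic_normal_eq_top_or_le_center h N with h1 | h1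
    · exact Or.inr fun w => h1 ▸ Subgroup.mem_top _
    · exact Or.inl h1
  · push Not at h
    obtain rfl : m = 2 := by omega
    have hq : Fintype.card F₀ = 2 := by
      have := Fintype.one_lt_card (α := F₀)
      have := h.2.1 rfl
      omega
    obtain ⟨e⟩ := S0247.result hq
    haveI : (N.map e.toMonoidHom).Normal := Subgroup.Normal.map inferInstance _ e.surjective
    by_cases hN : Nontrivial (N.map e.toMonoidHom)
    · right
      intro w
      have hle := Equiv.Perm.alternatingGroup_le_of_normal (α := Fin 6) (by simp) hN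
      have hmem : e (w * w) ∈ N.map e.toMonoidHom := hle (by
        rw [Equiv.Perm.mem_alternatingGroup, map_mul, map_mul]
        exact Int.units_mul_self _)
      obtain ⟨w', hw', e'⟩ := hmem
      rwa [e.injective e'] at hw'
    · left
      intro w hw
      have h1 : e w = 1 := by
        by_contra hne
        exact hN ⟨⟨⟨e w, ⟨w, hw, rfl⟩⟩, 1, fun e' => hne (congrArg Subtype.val e')⟩⟩
      rw [e.map_eq_one_iff] at h1
      exact h1 ▸ one_mem _

/-- A rational element of order four. -/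
theorem exists_rat_two (hm : 2 ≤ m) (h2 : (2 : F) ≠ 0) : ∃ w : Matrix.symplecticGroup (Fin m) F₁,
    w ^ 4 = 1 ∧ rat σ (w * w) ≠ 1 := by
  let T : Matrix.SpecialLinearGroup (Fin 2) F₁ := ⟨!![0, 1; -1, 0], by simp [Matrix.det_fin_two]⟩
  have hTT00 : (T * T).1 0 0 = -1 := by rw [Matrix.SpecialLinearGroup.coe_mul]; simp [T, Matrix.mul_apply, Fin.sum_univ_two]
  have hTT01 : (T * T).1 0 1 = 0 := by rw [Matrix.SpecialLinearGroup.coe_mul]; simp [T, Matrix.mul_apply, Fin.sum_univ_two]
  have hTT10 : (T * T).1 1 0 = 0 := by rw [Matrix.SpecialLinearGroup.coe_mul]; simp [T, Matrix.mul_apply, Fin.sum_univ_two]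
  have hTT11 : (T * T).1 1 1 = -1 := by rw [Matrix.SpecialLinearGroup.coe_mul]; simp [T, Matrix.mul_apply, Fin.sum_univ_two]
  refine ⟨psi (ix1 hm) T, ?_, fun e => ?_⟩
  · rw [← map_pow, show T ^ 4 = 1 from Subtype.ext (by
      rw [show (4 : ℕ) = 2 + 2 from rfl, pow_add, pow_two, Matrix.SpecialLinearGroup.coe_mul,
        Matrix.SpecialLinearGroup.coe_mul, Matrix.SpecialLinearGroup.coe_one]
      ext i j
      fin_cases i <;> fin_cases j <;> simp [T, Matrix.mul_apply, Fin.sum_univ_two]), map_one]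
  · rw [← map_mul] at e
    obtain ⟨a, ha⟩ := mk_eq_one (congrArg Subtype.val e)
    have h01 := ix0_ne_ix1 hm
    have h0 := congrFun (ha (Pi.single (Sum.inl (ix0 hm)) 1)) (Sum.inl (ix0 hm))
    have h1 := congrFun (ha (Pi.single (Sum.inl (ix1 hm)) 1)) (Sum.inl (ix1 hm))
    simp [embSp, hTT00, hTT01, hTT10, hTT11, psi, Fusion.SympBlocks.ofBlocks, dE, Matrix.mulVec_single, Matrix.one_apply,
      Matrix.single_apply, h01, h01.symm, Matrix.mul_apply, Fin.sum_univ_two] at h0 h1
    exact h2 (by linear_combination h0 - h1)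

/-- A normal subgroup of order prime to `p` of the fixed points is trivial when `p` divides their number. -/
theorem fix_normal_eq_bot (hm : 2 ≤ m) {p : ℕ} [Fact p.Prime] (hpr : (p : F) ≠ 0)
    (hdvd : p ∣ Nat.card (fixPts (fieldQ σ : MulAut (PSp m F)))) (L₀ : Subgroup (fixPts (fieldQ σ : MulAut (PSp m F))))
    [L₀.Normal] (hco : (Nat.card L₀).Coprime p) : L₀ = ⊥ := by
  classical
  haveI : Finite (PSp m F) := inferInstance
  haveI : Fintype F₁ := Fintype.ofFinite _
  have hp : p.Prime := Fact.out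
  have hcommute : L₀ ⊓ (rat σ).range = ⊥ := by
    rcases normal_le_center_or_sq hm (L₀.comap (rat σ)) with h | h
    · refine eq_bot_iff.2 ?_
      rintro k ⟨hk, w, rfl⟩
      exact Subgroup.mem_bot.2 (rat_center σ hm (h hk))
    · exfalso
      have hkey : ∀ w, p ∣ orderOf (rat σ (w * w)) → False := fun w hw => by
        have h1 : orderOf (⟨rat σ (w * w), Subgroup.mem_comap.1 (h w)⟩ : L₀) ∣ Nat.card L₀ := orderOf_dvd_natCard _
        rw [Subgroup.orderOf_mk] at h1
        exact hp.coprime_iff_not_dvd.1 hco.symm (hw.trans h1)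
      by_cases hp2 : p = 2
      · subst hp2
        obtain ⟨w, h4, hne⟩ := exists_rat_two σ hm (by simpa using hpr)
        refine hkey w ((orderOf_eq_prime (p := 2) ?_ hne).symm.dvd)
        rw [← map_pow, show (w * w) ^ 2 = w ^ 4 by simp [pow_succ, mul_assoc], h4, map_one]
      · obtain ⟨k, hk⟩ := exists_prime_orderOf_dvd_card' p hdvd
        obtain ⟨w, hw⟩ := sq_mem_range σ hm k
        refine hkey w ?_
        rw [map_mul, hw, show k * k * (k * k) = k ^ 4 by simp [pow_succ, mul_assoc],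
          Nat.Coprime.orderOf_pow (by rw [hk]; exact (Nat.Coprime.pow_right 2 ((Nat.coprime_primes hp Nat.prime_two).2 hp2))), hk]
  refine eq_bot_iff.2 fun k hk => Subgroup.mem_bot.2 ?_
  have hfix : ∀ v : Vv, (σ ∘ v : Vv) = v →
      MulAut.conj (k : PSp m F) (QuotientGroup.mk (tv v 1)) = QuotientGroup.mk (tv v 1) := by
    intro v hv
    have hfs : fieldS σ (tv v 1) = tv v 1 := by rw [fieldS_tv, hv, map_one]
    let t : fixPts (fieldQ σ : MulAut (PSp m F)) := ⟨QuotientGroup.mk (tv v 1), by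
      rw [mem_fixPts, fieldQ_mk, hfs]⟩
    obtain ⟨w, hw⟩ : t ∈ (rat σ).range := mem_range_rat σ (s := tv v 1) (congrArg Subtype.val hfs) rfl
    have h1 : k * t * k⁻¹ * t⁻¹ = 1 := by
      rw [← Subgroup.mem_bot, ← hcommute]
      refine ⟨?_, ?_⟩
      · rw [mul_assoc k, mul_assoc k]
        exact L₀.mul_mem hk (Subgroup.Normal.conj_mem inferInstance _ (L₀.inv_mem hk) t)
      · exact Subgroup.mul_mem _ (hw ▸ conj_rat_mem σ k w) (Subgroup.inv_mem _ ⟨w, hw⟩)
    have h2 := congrArg Subtype.val (mul_inv_eq_one.1 h1)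
    exact h2
  obtain ⟨τ, -, e⟩ := eq_fieldQ_of_fix hm σ hfix
  obtain ⟨s, hs⟩ := QuotientGroup.mk_surjective (k : PSp m F)
  have hτ1 : τ = 1 := by
    refine inv_eq_one.1 (eq_one_data hm (g := toGS s) (σ := τ⁻¹) ?_).1
    rw [conjQ_toGS, hs, e, ← map_mul, mul_inv_cancel, map_one]
  rw [hτ1, map_one, ← map_one (MulAut.conj : PSp m F →* _)] at e
  exact Subtype.ext (conj_injective hm e)

theorem core_eq_bot_iff (hm : 2 ≤ m) {p : ℕ} [Fact p.Prime] (hpr : (p : F) ≠ 0) (hσ : orderOf σ = p) (A : Subgroup (MulAut (PSp m F)))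
    (hinn : ∀ k : PSp m F, MulAut.conj k ∈ A) :
    Cfsg.pPrimeCore p ↥(A ⊓ Subgroup.centralizer {(fieldQ σ : MulAut (PSp m F))}) ≠ ⊥ ↔
      Nat.Coprime p (Nat.card (fixPts (fieldQ σ : MulAut (PSp m F)))) := by
  classical
  haveI : Finite (PSp m F) := inferInstance
  haveI : Finite (MulAut (PSp m F)) :=
    Finite.of_injective (fun e : MulAut (PSp m F) => (e : PSp m F → PSp m F)) DFunLike.coe_injective
  have hp : p.Prime := Fact.out
  set x : MulAut (PSp m F) := fieldQ σ
  set C := A ⊓ Subgroup.centralizer {x}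
  let j : fixPts x →* C := ((MulAut.conj : PSp m F →* _).comp (fixPts x).subtype).codRestrict C fun k =>
    ⟨hinn _, Subgroup.mem_centralizer_singleton_iff.2 (by
      show MulAut.conj (k : PSp m F) * x = x * MulAut.conj (k : PSp m F)
      rw [mul_conj x, show x (k : PSp m F) = k from k.2])⟩
  have hj : Function.Injective j := fun a b h => Subtype.ext (conj_injective hm (congrArg Subtype.val h))
  have hconj : ∀ (c : C) (k : fixPts x), ∃ k' : fixPts x, c * j k * c⁻¹ = j k' := fun c k => by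
    have hcx : x * (c : MulAut (PSp m F)) = c * x := (Subgroup.mem_centralizer_singleton_iff.1 c.2.2).symm
    refine ⟨⟨(c : MulAut (PSp m F)) (k : PSp m F), ?_⟩, Subtype.ext ?_⟩
    · rw [mem_fixPts, ← MulAut.mul_apply, hcx, MulAut.mul_apply, show x (k : PSp m F) = k from k.2]
    · show (c : MulAut (PSp m F)) * MulAut.conj (k : PSp m F) * (c : MulAut (PSp m F))⁻¹ = _
      rw [mul_conj, mul_inv_cancel_right]
      rfl
  haveI hnorm : j.range.Normal := ⟨by
    rintro _ ⟨k, rfl⟩ c
    obtain ⟨k', hk'⟩ := hconj c k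
    exact ⟨k', hk'.symm⟩⟩
  have hcardj : Nat.card j.range = Nat.card (fixPts x) := (Nat.card_congr (MonoidHom.ofInjective hj).toEquiv).symm
  constructor
  · intro hne
    refine hp.coprime_iff_not_dvd.2 fun hdvd => hne (eq_bot_iff.2 fun l hl => ?_)
    set L := Cfsg.pPrimeCore p C
    have hL₀ : L.comap j = ⊥ := by
      refine fix_normal_eq_bot σ hm hpr hdvd _ ?_
      exact Nat.Coprime.coprime_dvd_left (Subgroup.card_comap_dvd_of_injective L j hj) PCore.coprime_card_pPrimeCore
    have hLj : L ⊓ j.range = ⊥ := by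
      refine eq_bot_iff.2 ?_
      rintro y ⟨hy, k, rfl⟩
      have : k ∈ L.comap j := hy
      rw [hL₀, Subgroup.mem_bot] at this
      rw [this, map_one]
      exact one_mem _
    have hfix : ∀ k : fixPts x, (l : MulAut (PSp m F)) (k : PSp m F) = k := by
      intro k
      obtain ⟨k', hk'⟩ := hconj l k
      have h1 : l * j k * l⁻¹ * (j k)⁻¹ = 1 := by
        rw [← Subgroup.mem_bot, ← hLj]
        refine ⟨?_, ?_⟩
        · rw [mul_assoc l, mul_assoc l]
          exact L.mul_mem hl (Subgroup.Normal.conj_mem inferInstance _ (L.inv_mem hl) (j k))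
        · exact hk' ▸ Subgroup.mul_mem _ ⟨k', rfl⟩ (Subgroup.inv_mem _ ⟨k, rfl⟩)
      have h2 := congrArg Subtype.val (mul_inv_eq_one.1 h1)
      change (l : MulAut (PSp m F)) * MulAut.conj (k : PSp m F) * (l : MulAut (PSp m F))⁻¹ = MulAut.conj (k : PSp m F) at h2
      rw [mul_conj, mul_inv_cancel_right] at h2
      exact conj_injective hm h2
    obtain ⟨τ, hτ, e⟩ := eq_fieldQ_of_fix hm σ (a := (l : MulAut (PSp m F))) fun v hv => hfix ⟨(QuotientGroup.mk (tv v 1) : PSp m F), by
      rw [mem_fixPts, fieldQ_mk, fieldS_tv, hv, map_one]⟩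
    have hlp : l ^ p = 1 := Subtype.ext (by
      obtain ⟨i, rfl⟩ := hτ
      rw [SubmonoidClass.coe_pow, e, ← map_pow, ← zpow_natCast, ← _root_.zpow_mul, mul_comm, _root_.zpow_mul,
        zpow_natCast, ← hσ, pow_orderOf_eq_one, _root_.one_zpow, map_one]
      rfl)
    have h1 : orderOf l ∣ Nat.gcd p (Nat.card L) :=
      Nat.dvd_gcd (orderOf_dvd_of_pow_eq_one hlp) (by
        have := orderOf_dvd_natCard (⟨l, hl⟩ : L)
        rwa [Subgroup.orderOf_mk] at this)
    rw [Nat.Coprime.gcd_eq_one (PCore.coprime_card_pPrimeCore (p := p) (G := C)).symm, Nat.dvd_one,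
      orderOf_eq_one_iff] at h1
    exact Subgroup.mem_bot.2 h1
  · intro hco hbot
    have hle : j.range ≤ Cfsg.pPrimeCore p C := PCore.le_pPrimeCore (by rw [hcardj]; exact hco.symm)
    rw [hbot, le_bot_iff, MonoidHom.range_eq_bot_iff] at hle
    have hv : (σ ∘ e0 hm : Vv) = e0 hm := funext fun i => by
      rcases eq_or_ne i (Sum.inl (ix0 hm)) with rfl | h <;> simp [e0, *]
    let t : fixPts x := ⟨QuotientGroup.mk (tv (e0 hm) 1), by rw [mem_fixPts, fieldQ_mk, fieldS_tv, hv, map_one]⟩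
    have h1 : t = 1 := hj (by rw [hle]; rfl)
    obtain ⟨a, ha⟩ := mk_eq_one (congrArg Subtype.val h1)
    have h3 := ha (Pi.single (Sum.inr (ix0 hm)) 1)
    rw [tv_apply, B_e0_dual, one_mul, one_smul] at h3
    simpa [e0] using congrFun h3 (Sum.inl (ix0 hm))

theorem mapsRoots_mul {a b : MulAut (PSp m F)} (ha : MapsRoots a) (hb : MapsRoots b) : MapsRoots (a * b) := by
  intro v hv
  obtain ⟨w, hw, e⟩ := hb v hv
  obtain ⟨u, hu, e'⟩ := ha w hw
  exact ⟨u, hu, by rw [map_mulAut_mul, e, e']⟩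

/-- The automorphisms permuting the transvection groups. -/
def rootStab : Subgroup (MulAut (PSp m F)) where
  carrier := {a | MapsRoots a ∧ MapsRoots a⁻¹}
  one_mem' := ⟨fun v hv => ⟨v, hv, map_mulAut_one _⟩, by
    rw [inv_one]; exact fun v hv => ⟨v, hv, map_mulAut_one _⟩⟩
  mul_mem' {a b} ha hb := ⟨mapsRoots_mul ha.1 hb.1, by rw [_root_.mul_inv_rev]; exact mapsRoots_mul hb.2 ha.2⟩
  inv_mem' {a} ha := ⟨ha.2, by rw [inv_inv]; exact ha.1⟩

/-- An element of odd order permutes the transvection groups. -/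
theorem mem_rootStab_of_odd (hm : 2 ≤ m) {r : ℕ} [Fact r.Prime] [CharP F r] {x : MulAut (PSp m F)} {k : ℕ}
    (h : m = 2 → r = 2 → x ^ (2 * k + 1) = 1) : x ∈ rootStab := by
  by_cases h22 : m = 2 ∧ r = 2
  · obtain ⟨rfl, rfl⟩ := h22
    haveI : Finite (PSp 2 F) := inferInstance
    haveI : Finite (MulAut (PSp 2 F)) :=
      Finite.of_injective (fun e : MulAut (PSp 2 F) => (e : PSp 2 F → PSp 2 F)) DFunLike.coe_injective
    have hcard : Nat.card (MulAut (PSp 2 F)) = 2 * Nat.card (rootStab : Subgroup (MulAut (PSp 2 F))) := by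
      rw [card_aut_graph, ← card_mapsRoots le_rfl]
      rfl
    have h2 : (rootStab : Subgroup (MulAut (PSp 2 F))).index = 2 :=
      Nat.eq_of_mul_eq_mul_left Nat.card_pos (by rw [Subgroup.card_mul_index, hcard, mul_comm])
    have hx : x = (x ^ (k + 1)) ^ 2 := by
      rw [← pow_mul, show (k + 1) * 2 = (2 * k + 1) + 1 by ring, pow_succ, h rfl rfl, one_mul]
    rw [hx]
    exact Subgroup.sq_mem_of_index_two h2 _
  · have h4 : m = 2 → r ≠ 2 := fun hm2 hr => h22 ⟨hm2, hr⟩
    exact ⟨fun _ hv => exists_map_root hm r h4 x hv, fun _ hv => exists_map_root hm r h4 x⁻¹ hv⟩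

end Cfsg.Agent.AutPSp
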