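import Cfsg.Agent.Lib.Forms.Symp
import Cfsg.Prelude.Def_LieTypeDatum

/-!
Automorphisms of `PSp` induced by similitudes and by field automorphisms.
-/

set_option autoImplicit false

namespace Cfsg.Agent.AutPSp

open Matrix Cfsg
open scoped MatrixGroups

universe u

variable {m : ℕ} {F : Type u} [Field F]

local notation "Vv" => (Fin m ⊕ Fin m → F)
local notation "M2" => Matrix (Fin m ⊕ Fin m) (Fin m ⊕ Fin m) F
local notation "Sp" => Matrix.symplecticGroup (Fin m) F
local notation "GS" => Cfsg.GSp m F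

theorem map_center {G : Type*} [Group G] (e : MulAut G) :
    (Subgroup.center G).map (e : G ≃* G).toMonoidHom = Subgroup.center G := by
  ext x
  constructor
  · rintro ⟨y, hy, rfl⟩
    refine Subgroup.mem_center_iff.2 fun z => ?_
    obtain ⟨w, rfl⟩ := e.surjective z
    simp only [MulEquiv.coe_toMonoidHom, ← map_mul, (Subgroup.mem_center_iff.1 hy w)]
  · intro hx
    refine ⟨e.symm x, Subgroup.mem_center_iff.2 fun z => e.injective ?_, e.apply_symm_apply x⟩
    rw [map_mul, map_mul, e.apply_symm_apply]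
    exact Subgroup.mem_center_iff.1 hx _

/-- Automorphisms of `Sp` act on `PSp`. -/
def autQ : MulAut Sp →* MulAut (PSp m F) where
  toFun e := QuotientGroup.congr _ _ e (map_center e)
  map_one' := MulEquiv.ext fun x => by
    induction x using QuotientGroup.induction_on with
    | _ s => rfl
  map_mul' e f := MulEquiv.ext fun x => by
    induction x using QuotientGroup.induction_on with
    | _ s => rfl

theorem autQ_mk (e : MulAut Sp) (s : Sp) : autQ e (QuotientGroup.mk s) = QuotientGroup.mk (e s) := rfl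

/-- `g s g⁻¹` is symplectic. -/
theorem conj_mem (g : GS) (s : Sp) :
    ((g.1 : GL (Fin m ⊕ Fin m) F) : M2) * (s : M2) * ((g.1⁻¹ : GL (Fin m ⊕ Fin m) F) : M2) ∈
      Matrix.symplecticGroup (Fin m) F := by
  obtain ⟨c, hc⟩ := g.2
  rw [Forms.mem_symplecticGroup_iff_form]
  intro u v
  have h1 : ∀ w, ((g.1 : GL (Fin m ⊕ Fin m) F) : M2) *ᵥ (((g.1⁻¹ : GL (Fin m ⊕ Fin m) F) : M2) *ᵥ w) = w :=
    fun w => by rw [Matrix.mulVec_mulVec, Units.mul_inv, Matrix.one_mulVec]
  rw [← Matrix.mulVec_mulVec, ← Matrix.mulVec_mulVec, ← Matrix.mulVec_mulVec, ← Matrix.mulVec_mulVec,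
    hc, Forms.mem_symplecticGroup_iff_form.1 s.2, ← hc, h1, h1]

/-- Conjugation by a similitude. -/
def cSp (g : GS) (s : Sp) : Sp := ⟨_, conj_mem g s⟩

theorem cSp_coe (g : GS) (s : Sp) :
    (cSp g s : M2) = ((g.1 : GL (Fin m ⊕ Fin m) F) : M2) * (s : M2) * ((g.1⁻¹ : GL (Fin m ⊕ Fin m) F) : M2) :=
  rfl

theorem cSp_mul (g h : GS) (s : Sp) : cSp (g * h) s = cSp g (cSp h s) :=
  Subtype.ext (by simp [cSp_coe, Matrix.mul_assoc])

theorem cSp_one (s : Sp) : cSp 1 s = s := Subtype.ext (by simp [cSp_coe])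

theorem cSp_map_mul (g : GS) (s t : Sp) : cSp g (s * t) = cSp g s * cSp g t :=
  Subtype.ext (by simp [cSp_coe, Matrix.mul_assoc])

/-- Conjugation of `Sp` by similitudes. -/
def conjS : GS →* MulAut Sp where
  toFun g :=
    { toFun := cSp g
      invFun := cSp g⁻¹
      left_inv := fun s => by rw [← cSp_mul, inv_mul_cancel, cSp_one]
      right_inv := fun s => by rw [← cSp_mul, mul_inv_cancel, cSp_one]
      map_mul' := cSp_map_mul g }
  map_one' := MulEquiv.ext cSp_one
  map_mul' g h := MulEquiv.ext (cSp_mul g h)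

theorem J_map (σ : F →+* F) : (Matrix.J (Fin m) F).map σ = Matrix.J (Fin m) F := by
  ext (i | i) (j | j) <;> simp [Matrix.J, Matrix.one_apply, apply_ite σ]

theorem map_mem (σ : F ≃+* F) (s : Sp) : (s : M2).map σ ∈ Matrix.symplecticGroup (Fin m) F := by
  rw [SymplecticGroup.mem_iff]
  have h := congrArg (fun M : M2 => M.map σ.toRingHom) (SymplecticGroup.mem_iff.1 s.2)
  simp only [Matrix.map_mul, J_map] at h
  exact h

/-- A field automorphism applied entrywise. -/
def fieldS : (F ≃+* F) →* MulAut Sp where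
  toFun σ :=
    { toFun := fun s => ⟨_, map_mem σ s⟩
      invFun := fun s => ⟨_, map_mem σ.symm s⟩
      left_inv := fun s => Subtype.ext (Matrix.ext fun i j => σ.symm_apply_apply _)
      right_inv := fun s => Subtype.ext (Matrix.ext fun i j => σ.apply_symm_apply _)
      map_mul' := fun s t => Subtype.ext (Matrix.map_mul (f := σ.toRingHom)) }
  map_one' := MulEquiv.ext fun s => Subtype.ext (Matrix.ext fun i j => rfl)
  map_mul' σ τ := MulEquiv.ext fun s => Subtype.ext (Matrix.ext fun i j => rfl)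

theorem fieldS_coe (σ : F ≃+* F) (s : Sp) : (fieldS σ s : M2) = (s : M2).map σ := rfl

/-- The automorphism of `PSp` induced by a similitude. -/
def conjQ : GS →* MulAut (PSp m F) := autQ.comp conjS

/-- The standard field automorphisms of `PSp`. -/
def fieldQ : (F ≃+* F) →* MulAut (PSp m F) := autQ.comp fieldS

theorem conjQ_mk (g : GS) (s : Sp) : conjQ g (QuotientGroup.mk s) = QuotientGroup.mk (cSp g s) := rfl

theorem fieldQ_mk (σ : F ≃+* F) (s : Sp) :
    fieldQ σ (QuotientGroup.mk s : PSp m F) = QuotientGroup.mk (fieldS σ s) := rfl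

theorem glmap_mem (σ : F ≃+* F) (g : GS) :
    Matrix.GeneralLinearGroup.map σ.toRingHom g.1 ∈ Cfsg.GSp m F := by
  obtain ⟨c, hc⟩ := g.2
  have hσ : ∀ a b : Vv, sympForm m F (σ ∘ a) (σ ∘ b) = σ (sympForm m F a b) := fun a b => by
    simp [Forms.sympForm_eq_sum]
  refine ⟨Units.map σ.toRingHom.toMonoidHom c, fun u v => ?_⟩
  obtain ⟨u, rfl⟩ : ∃ u', σ ∘ u' = u := ⟨σ.symm ∘ u, funext fun i => σ.apply_symm_apply _⟩
  obtain ⟨v, rfl⟩ : ∃ v', σ ∘ v' = v := ⟨σ.symm ∘ v, funext fun i => σ.apply_symm_apply _⟩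
  have hm : ∀ w : Vv, ((Matrix.GeneralLinearGroup.map σ.toRingHom g.1 : GL (Fin m ⊕ Fin m) F) : M2) *ᵥ (σ ∘ w) =
      σ ∘ (((g.1 : GL (Fin m ⊕ Fin m) F) : M2) *ᵥ w) := fun w =>
    funext fun i => (RingHom.map_mulVec σ.toRingHom _ w i).symm
  rw [hm, hm, hσ, hc, map_mul, hσ]
  rfl

/-- A field automorphism acting on similitudes. -/
def mapGS (σ : F ≃+* F) (g : GS) : GS := ⟨_, glmap_mem σ g⟩

theorem mapGS_coe (σ : F ≃+* F) (g : GS) :
    (((mapGS σ g).1 : GL (Fin m ⊕ Fin m) F) : M2) = ((g.1 : GL (Fin m ⊕ Fin m) F) : M2).map σ := rfl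

theorem fieldQ_mul_conjQ (σ : F ≃+* F) (g : GS) :
    (fieldQ σ : MulAut (PSp m F)) * conjQ g = conjQ (mapGS σ g) * fieldQ σ := by
  simp only [fieldQ, conjQ, MonoidHom.comp_apply, ← map_mul]
  refine congrArg autQ (MulEquiv.ext fun s => Subtype.ext ?_)
  show (cSp g s : M2).map σ = (cSp (mapGS σ g) (fieldS σ s) : M2)
  rw [cSp_coe, cSp_coe, fieldS_coe, mapGS_coe, show (((mapGS σ g).1⁻¹ : GL (Fin m ⊕ Fin m) F) : M2) =
    ((g.1⁻¹ : GL (Fin m ⊕ Fin m) F) : M2).map σ from rfl]
  exact (Matrix.map_mul (f := σ.toRingHom)).trans (congrArg (· * _) (Matrix.map_mul (f := σ.toRingHom)))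

/-- A symplectic matrix as a similitude. -/
noncomputable def toGS : Sp →* GS where
  toFun s := ⟨(Forms.spEquivPreserving m F s).1, 1, fun u v => by
    rw [Units.val_one, one_mul]; exact (Forms.spEquivPreserving m F s).2 u v⟩
  map_one' := Subtype.ext (by rw [map_one]; rfl)
  map_mul' s t := Subtype.ext (by rw [map_mul]; rfl)

theorem toGS_coe (s : Sp) : (((toGS s).1 : GL (Fin m ⊕ Fin m) F) : M2) = (s : M2) := rfl

theorem conjQ_toGS (t : Sp) : conjQ (toGS t) = MulAut.conj (QuotientGroup.mk t : PSp m F) := by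
  refine MulEquiv.ext fun x => ?_
  induction x using QuotientGroup.induction_on with
  | _ s =>
    rw [conjQ_mk, MulAut.conj_apply]
    refine congrArg QuotientGroup.mk (eq_mul_inv_of_mul_eq (Subtype.ext ?_))
    rw [Submonoid.coe_mul, Submonoid.coe_mul, cSp_coe, toGS_coe, Matrix.mul_assoc, ← toGS_coe t, Units.inv_mul,
      Matrix.mul_one]

theorem eq_of_semilinear {β : MulAut (PSp m F)} (g : GS) (σ : F ≃+* F)
    (h : IsInducedBySemilinearPSp g.1 σ β) : β = conjQ g * fieldQ σ := by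
  refine MulEquiv.ext fun x => ?_
  induction x using QuotientGroup.induction_on with
  | _ s => exact h s (cSp g (fieldS σ s)) rfl

theorem isInduced (g : GS) (σ : F ≃+* F) :
    IsInducedBySemilinearPSp g.1 σ (conjQ g * fieldQ σ : MulAut (PSp m F)) := by
  intro s s' h
  show (QuotientGroup.mk (cSp g (fieldS σ s)) : PSp m F) = QuotientGroup.mk s'
  rw [show cSp g (fieldS σ s) = s' from Subtype.ext h.symm]

theorem isInnerDiagonal_conjQ (g : GS) : IsInnerDiagonalAutPSp (conjQ g : MulAut (PSp m F)) := by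
  refine ⟨g.1, g.2, ?_⟩
  have h := isInduced g (RingEquiv.refl F)
  rwa [show (fieldQ (RingEquiv.refl F) : MulAut (PSp m F)) = 1 from map_one fieldQ, mul_one] at h

theorem inndiag_eq_range : inndiagPSp m F = (conjQ : GS →* MulAut (PSp m F)).range := by
  refine le_antisymm ((Subgroup.closure_le _).2 ?_) ?_
  · rintro β ⟨g, hg, h⟩
    exact ⟨⟨g, hg⟩, by rw [eq_of_semilinear ⟨g, hg⟩ _ h, show (fieldQ (RingEquiv.refl F) : MulAut (PSp m F)) = 1 from
      map_one fieldQ, mul_one]⟩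
  · rintro _ ⟨g, rfl⟩
    exact Subgroup.subset_closure (isInnerDiagonal_conjQ g)

theorem isStdField_fieldQ (σ : F ≃+* F) : IsStdFieldAutPSp σ (fieldQ σ : MulAut (PSp m F)) :=
  fun s s' h => by rw [fieldQ_mk, show fieldS σ s = s' from Subtype.ext h.symm]

theorem eq_fieldQ {β : MulAut (PSp m F)} {σ : F ≃+* F} (h : IsStdFieldAutPSp σ β) : β = fieldQ σ := by
  refine MulEquiv.ext fun x => ?_
  induction x using QuotientGroup.induction_on with
  | _ s => rw [fieldQ_mk]; exact h s (fieldS σ s) rfl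

theorem mem_gamma (g : GS) (σ : F ≃+* F) : (conjQ g * fieldQ σ : MulAut (PSp m F)) ∈ gammaPSp m F :=
  Subgroup.subset_closure ⟨g.1, σ, g.2, isInduced g σ⟩

end Cfsg.Agent.AutPSp
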