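import Cfsg.Agent.Lib.AutPSp.Mult
import Cfsg.Agent.Lib.AutPSL.FieldAut

/-!
Field automorphisms of `PSp`: Lang's theorem, centralisers in `PGSp` and class splitting.
-/

set_option autoImplicit false
set_option linter.unusedSectionVars false

namespace Cfsg.Agent.AutPSp

open Matrix Cfsg
open Cfsg.Agent.Forms (sympB)
open scoped MatrixGroups

universe u

variable {m : ℕ} {F : Type u} [Field F] [Fintype F]

local notation "Vv" => (Fin m ⊕ Fin m → F)
local notation "M2" => Matrix (Fin m ⊕ Fin m) (Fin m ⊕ Fin m) F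
local notation "GS" => Cfsg.GSp m F
local notation "GLi" => GL (Fin m ⊕ Fin m) F
local notation "JJ" => Matrix.J (Fin m) F

/-- Reindexing by consecutive numbers. -/
def rei (hm : 2 ≤ m) : GLi ≃* GL (Fin ((m + m - 1) + 1)) F :=
  Units.mapEquiv (Matrix.reindexAlgEquiv F F (finSumFinEquiv.trans (finCongr (show m + m = m + m - 1 + 1 by omega)))).toMulEquiv

theorem rei_scalar (hm : 2 ≤ m) (z : Fˣ) :
    rei hm (Matrix.GeneralLinearGroup.scalar (Fin m ⊕ Fin m) z : GLi) = Matrix.GeneralLinearGroup.scalar _ z := by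
  refine Units.ext (Matrix.ext fun i j => ?_)
  rcases eq_or_ne i j with rfl | h <;> simp [rei, Matrix.GeneralLinearGroup.coe_scalar, *]

theorem rei_map (hm : 2 ≤ m) (σ : F ≃+* F) (g : GLi) :
    rei hm (Matrix.GeneralLinearGroup.map σ.toRingHom g) = FieldExt.glMap σ (rei hm g) :=
  Units.ext (Matrix.ext fun _ _ => rfl)

/-- The twisted norm of a similitude. -/
def tw (σ : F ≃+* F) (g : GS) : ℕ → GS
  | 0 => 1
  | k + 1 => g * mapGS σ (tw σ g k)

theorem rei_tw (hm : 2 ≤ m) (σ : F ≃+* F) (g : GS) : ∀ k, rei hm (tw σ g k).1 = FieldExt.twistNorm σ (rei hm g.1) k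
  | 0 => map_one _
  | k + 1 => by
    rw [FieldExt.twistNorm_succ, ← rei_tw hm σ g k, ← rei_map, ← map_mul]
    rfl

theorem conjQ_mul_fieldQ_pow (σ : F ≃+* F) (g : GS) : ∀ k,
    (conjQ g * fieldQ σ : MulAut (PSp m F)) ^ k = conjQ (tw σ g k) * fieldQ (σ ^ k)
  | 0 => by rw [pow_zero, pow_zero, tw, map_one, map_one, one_mul]
  | k + 1 => by
    rw [pow_succ', conjQ_mul_fieldQ_pow σ g k, mul_assoc, ← mul_assoc (fieldQ σ), fieldQ_mul_conjQ, mul_assoc,
      ← mul_assoc (conjQ g), ← map_mul, ← map_mul, ← pow_succ', tw]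

theorem mem_GSp_iff (g : GLi) : g ∈ Cfsg.GSp m F ↔ ∃ c : Fˣ, g.valᵀ * JJ * g.val = (c : F) • JJ := by
  rw [GraphAut.GSp_eq]; exact GraphAut.mem_simM

theorem J_map' {K L : Type*} [Field K] [Field L] (ι : K →+* L) :
    (Matrix.J (Fin m) K).map ι = Matrix.J (Fin m) L := by
  ext (i | i) (j | j) <;> simp [Matrix.J, Matrix.one_apply, apply_ite ι]

/-- Descent for similitudes: an element of trivial norm is a coboundary in `GSp`. -/
theorem exists_descentGS (hm : 2 ≤ m) (σ : F ≃+* F) {r : ℕ} (hσ : orderOf σ = r) (g : GS)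
    (hg : (tw σ g r).1 = 1) : ∃ k : GS, g * mapGS σ k = k := by
  have hr : 0 < r := hσ ▸ FieldExt.orderOf_pos' σ
  obtain ⟨h', hh'⟩ := FieldExt.exists_descent σ hr hσ (rei hm g.1) (by rw [← rei_tw hm, hg, map_one])
  obtain ⟨h, rfl⟩ := (rei hm).surjective h'
  rw [← rei_map, ← map_mul, (rei hm).injective.eq_iff] at hh'
  obtain ⟨μ, hμ⟩ := (mem_GSp_iff g.1).1 g.2
  set M : M2 := h.valᵀ * JJ * h.val
  have hM : M = (μ : F) • M.map σ := by
    have e := congrArg Units.val hh'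
    rw [Units.val_mul] at e
    have e' : (Matrix.GeneralLinearGroup.map σ.toRingHom h).val = h.val.map σ := rfl
    rw [e'] at e
    have hms : M.map σ = (h.val.map σ)ᵀ * JJ * h.val.map σ := by
      show (h.valᵀ * JJ * h.val).map σ.toRingHom = _
      rw [Matrix.map_mul, Matrix.map_mul, Matrix.transpose_map, J_map']
      rfl
    calc M = (g.1.val * h.val.map σ)ᵀ * JJ * (g.1.val * h.val.map σ) := by rw [e]
      _ = (h.val.map σ)ᵀ * (g.1.valᵀ * JJ * g.1.val) * h.val.map σ := by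
        rw [Matrix.transpose_mul]; simp only [Matrix.mul_assoc]
      _ = (μ : F) • M.map σ := by rw [hμ, hms, Matrix.mul_smul, Matrix.smul_mul]
  -- the multiplier is a coboundary
  have hw : ∀ k, M = (∏ i ∈ Finset.range k, ((σ ^ i : F ≃+* F) (μ : F))) • M.map (σ ^ k : F ≃+* F) := by
    intro k
    induction k with
    | zero => simp [RingAut.one_apply]
    | succ k ih =>
      conv_lhs => rw [ih, hM]
      rw [Finset.prod_range_succ, mul_smul]
      congr 1
      ext i j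
      simp [pow_succ, map_mul]
  have hMdet : M.det ≠ 0 := by
    have hu := ((Matrix.isUnit_iff_isUnit_det _).1 h.isUnit).ne_zero
    simp [M, Matrix.det_mul, hu, (Matrix.isUnit_det_J (Fin m) F).ne_zero]
  have hMne : M ≠ 0 := fun e => hMdet (by
    haveI : Nonempty (Fin m ⊕ Fin m) := ⟨Sum.inl (ix0 hm)⟩
    rw [e, Matrix.det_zero])
  have hprod : ∏ i ∈ Finset.range r, Units.map ((σ ^ i : F ≃+* F) : F →* F) μ = 1 := by
    have e := hw r
    rw [← hσ, pow_orderOf_eq_one, hσ, show M.map (1 : F ≃+* F) = M from rfl] at e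
    refine Units.ext (smul_left_injective F hMne ?_)
    simp only [Units.coe_prod, Units.coe_map, Units.val_one, one_smul]
    exact e.symm
  obtain ⟨w, hwμ⟩ := FieldExt.exists_div_eq σ hr hσ μ hprod
  -- a form over the fixed field
  have hfix : ∀ i j, ((↑w⁻¹ : F) • M) i j ∈ FieldExt.fixedField σ := by
    intro i j
    rw [FieldExt.mem_fixedField]
    have e1 : σ (w : F) = (μ : F)⁻¹ * w := by
      have e := congrArg Units.val hwμ
      rw [eq_inv_mul_iff_mul_eq₀ μ.ne_zero]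
      simpa using e
    have e2 : σ (M i j) = (μ : F)⁻¹ * M i j := by
      conv_rhs => rw [hM]
      simp
    rw [Matrix.smul_apply, smul_eq_mul, map_mul, e2, Units.val_inv_eq_inv_val, map_inv₀, e1, mul_inv, inv_inv]
    field_simp
  set M0 : Matrix (Fin m ⊕ Fin m) (Fin m ⊕ Fin m) (FieldExt.fixedField σ) := Matrix.of fun i j => ⟨_, hfix i j⟩
  have hmap : M0.map (FieldExt.fixedField σ).subtype = (↑w⁻¹ : F) • M := rfl
  have hdet0 : M0.det ≠ 0 := fun e => by
    have := congrArg (FieldExt.fixedField σ).subtype e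
    rw [map_zero, RingHom.map_det, RingHom.mapMatrix_apply, hmap, Matrix.det_smul] at this
    exact hMdet (by simpa using this)
  have halt : ∀ v, v ⬝ᵥ (M0 *ᵥ v) = 0 := fun v => (FieldExt.fixedField σ).subtype.injective (by
    rw [map_zero, RingHom.map_dotProduct, show ⇑(FieldExt.fixedField σ).subtype ∘ (M0 *ᵥ v) =
      M0.map (FieldExt.fixedField σ).subtype *ᵥ (⇑(FieldExt.fixedField σ).subtype ∘ v) from
        funext fun i => RingHom.map_mulVec _ M0 v i, hmap, Matrix.smul_mulVec, dotProduct_smul, ← GraphAut.bil_mulVec]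
    have e := B_self (F := F) (h.val *ᵥ (⇑(FieldExt.fixedField σ).subtype ∘ v))
    rw [Forms.sympB_apply] at e
    show _ • sympForm m F _ _ = 0
    rw [e, smul_zero])
  obtain ⟨m', hm', P, Q, c, hPQ, hQP, hP⟩ := GraphAut.alt_matSim M0 hdet0 halt
  have hmm : m = m' := by simp [Fintype.card_sum] at hm'; omega
  subst hmm
  set ι := (FieldExt.fixedField σ).subtype
  let P' : GLi := ⟨P.map ι, Q.map ι, by rw [← Matrix.map_mul, hPQ, Matrix.map_one _ (map_zero ι) (map_one ι)],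
    by rw [← Matrix.map_mul, hQP, Matrix.map_one _ (map_zero ι) (map_one ι)]⟩
  have hk : h * P' ∈ Cfsg.GSp m F := by
    refine (mem_GSp_iff _).2 ⟨w * Units.map ι.toMonoidHom c, ?_⟩
    have e := congrArg (fun A => A.map ι) hP
    simp only [Matrix.map_mul, ← Matrix.transpose_map, hmap] at e
    rw [Matrix.mul_smul, Matrix.smul_mul] at e
    have e' : ((c : FieldExt.fixedField σ) • Matrix.J (Fin m) (FieldExt.fixedField σ)).map ι =
        ι (c : FieldExt.fixedField σ) • Matrix.J (Fin m) F := by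
      ext i j; have := congrFun (congrFun (J_map' (m := m) ι) i) j; simp at this; simp [this]
    rw [e'] at e
    show (h.val * P.map ι)ᵀ * Matrix.J (Fin m) F * (h.val * P.map ι) = _
    calc _ = Pᵀ.map ι * M * P.map ι := by
          rw [Matrix.transpose_mul, ← Matrix.transpose_map]; simp only [M, Matrix.mul_assoc]
      _ = _ := by
        rw [Units.val_mul, mul_smul, Units.coe_map]
        show _ = (w : F) • ι (c : FieldExt.fixedField σ) • Matrix.J (Fin m) F
        rw [← e, smul_smul, Units.mul_inv, one_smul]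
  refine ⟨⟨_, hk⟩, Subtype.ext ?_⟩
  show g.1 * Matrix.GeneralLinearGroup.map σ.toRingHom (h * P') = h * P'
  rw [map_mul, ← mul_assoc, hh']
  congr 1
  exact Units.ext (Matrix.ext fun i j => FieldExt.mem_fixedField.1 (P i j).2)

theorem mapGS_scalGS (σ : F ≃+* F) (z : Fˣ) : mapGS σ (scalGS z : GS) = scalGS (Units.map (σ : F →* F) z) := by
  refine Subtype.ext (Units.ext (Matrix.ext fun i j => ?_))
  rw [mapGS_coe, Matrix.map_apply, scalGS_coe, scalGS_coe, Matrix.GeneralLinearGroup.coe_scalar,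
    Matrix.GeneralLinearGroup.coe_scalar]
  rcases eq_or_ne i j with rfl | h <;> simp [*]

/-- **Lang's theorem in `PGSp`.** -/
theorem lang_field (hm : 2 ≤ m) (σ : F ≃+* F) {r : ℕ} (hσ : orderOf σ = r) (g : GS)
    (h : (conjQ g * fieldQ σ : MulAut (PSp m F)) ^ r = 1) :
    ∃ k : GS, (conjQ g * fieldQ σ : MulAut (PSp m F)) = conjQ k * fieldQ σ * (conjQ k)⁻¹ := by
  have hr : 0 < r := hσ ▸ FieldExt.orderOf_pos' σ
  rw [conjQ_mul_fieldQ_pow, ← hσ, pow_orderOf_eq_one, map_one, mul_one, hσ] at h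
  obtain ⟨c, hc⟩ := (conjQ_eq_one_iff hm _).1 h
  have hc' : FieldExt.twistNorm σ (rei hm g.1) r = Matrix.GeneralLinearGroup.scalar _ c := by
    rw [← rei_tw hm, ← hc, scalGS_coe, rei_scalar]
  have hcfix : σ (c : F) = c := by
    have e := FieldExt.twistNorm_add σ (rei hm g.1) 1 r
    rw [Nat.add_comm 1 r, FieldExt.twistNorm_add, hc'] at e
    rw [← hσ, pow_orderOf_eq_one, FieldExt.glMap_one, pow_one, AutPSL.glMap_scalar,
      show FieldExt.twistNorm σ (rei hm g.1) 1 = rei hm g.1 by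
        rw [FieldExt.twistNorm_succ, FieldExt.twistNorm_zero, map_one, mul_one],
      AutPSL.scalar_commutes] at e
    exact (congrArg Units.val (AutPSL.scalar_inj (mul_left_cancel e))).symm
  obtain ⟨z, hz⟩ := FieldExt.exists_prod_eq σ hr hσ c hcfix
  obtain ⟨k, hk⟩ := exists_descentGS hm σ hσ (g * scalGS z⁻¹) ((rei hm).injective (by
    rw [rei_tw, map_one, Subgroup.coe_mul, map_mul, scalGS_coe, rei_scalar, FieldExt.twistNorm_mul_scalar, hc',
      ← map_mul, ← map_one (Matrix.GeneralLinearGroup.scalar _)]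
    congr 1
    simp only [map_inv, Finset.prod_inv_distrib, hz, mul_inv_cancel]))
  refine ⟨k, ?_⟩
  rw [← map_inv, mul_assoc, fieldQ_mul_conjQ, ← mul_assoc, ← map_mul]
  congr 1
  refine (conjQ_eq_conjQ_iff hm _ _).2 ⟨z⁻¹, ?_⟩
  rw [show mapGS σ k⁻¹ = (mapGS σ k)⁻¹ from Subtype.ext (map_inv _ _)]
  exact (eq_mul_inv_iff_mul_eq.2 hk).symm

theorem mem_centralizer_fieldQ_iff (hm : 2 ≤ m) (σ : F ≃+* F) (g : GS) :
    (conjQ g : MulAut (PSp m F)) * fieldQ σ * (conjQ g)⁻¹ = fieldQ σ ↔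
      ∃ c : Fˣ, mapGS σ g = g * scalGS c := by
  rw [mul_inv_eq_iff_eq_mul, fieldQ_mul_conjQ, mul_left_inj, conjQ_eq_conjQ_iff hm]

/-- Up to scalars, the centraliser of a field automorphism consists of fixed similitudes. -/
theorem exists_fixed_rep (hm : 2 ≤ m) (σ : F ≃+* F) (g : GS) (c : Fˣ) (hc : mapGS σ g = g * scalGS c) :
    ∃ (g₀ : GS) (y : Fˣ), mapGS σ g₀ = g₀ ∧ g = g₀ * scalGS y := by
  have h : FieldExt.glMap σ (rei hm g.1) = rei hm g.1 * Matrix.GeneralLinearGroup.scalar _ c := by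
    rw [← rei_map, ← rei_scalar hm, ← map_mul]
    exact congrArg (fun x : GS => rei hm x.1) hc
  obtain ⟨h₀, y, hh₀, e⟩ := AutPSL.exists_fixed_rep σ _ c h
  refine ⟨g * scalGS y⁻¹, y, Subtype.ext ((rei hm).injective ?_), by
    rw [mul_assoc, ← map_mul, inv_mul_cancel, map_one, mul_one]⟩
  have e' : rei hm (g * scalGS y⁻¹).1 = h₀ := by
    rw [Subgroup.coe_mul, map_mul, scalGS_coe, rei_scalar, e, mul_assoc, ← map_mul, mul_inv_cancel, map_one,
      mul_one]
  show rei hm (Matrix.GeneralLinearGroup.map σ.toRingHom _) = _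
  rw [rei_map, e', hh₀]

section Embedding

variable {F₀ : Type*} [Field F₀] [Fintype F₀] (ι : F₀ →+* F)

theorem map_mem_GSp (g : Cfsg.GSp m F₀) : Matrix.GeneralLinearGroup.map ι g.1 ∈ Cfsg.GSp m F := by
  obtain ⟨c, hc⟩ := (mem_GSp_iff g.1).1 g.2
  refine (mem_GSp_iff _).2 ⟨Units.map ι.toMonoidHom c, ?_⟩
  have e := congrArg (fun A => A.map ι) hc
  simp only [Matrix.map_mul, ← Matrix.transpose_map, J_map'] at e
  refine e.trans ?_
  ext i j
  have := congrFun (congrFun (J_map' (m := m) ι) i) j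
  simp_all

/-- Similitudes over a subfield. -/
def embGS : Cfsg.GSp m F₀ →* GS where
  toFun g := ⟨_, map_mem_GSp ι g⟩
  map_one' := Subtype.ext (map_one _)
  map_mul' a b := Subtype.ext (map_mul _ _ _)

theorem range_embGS (hm : 2 ≤ m) (σ : F ≃+* F) (hι : ∀ a : F, σ a = a ↔ a ∈ Set.range ι) {g : GS}
    (hg : mapGS σ g = g) : ∃ g₀ : Cfsg.GSp m F₀, embGS ι g₀ = g := by
  have hent : ∀ i j, ∃ a, ι a = g.1.val i j := fun i j =>
    (hι _).1 (congrFun (congrFun (congrArg (fun A : GS => A.1.val) hg) i) j)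
  choose A hA using hent
  have hmap : (Matrix.of A).map ι = g.1.val := by ext i j; exact hA i j
  have hdet : IsUnit (Matrix.of A).det := by
    rw [isUnit_iff_ne_zero]
    intro h0
    have := congrArg ι h0
    rw [RingHom.map_det, map_zero, RingHom.mapMatrix_apply, hmap] at this
    exact ((Matrix.isUnit_iff_isUnit_det _).1 g.1.isUnit).ne_zero this
  obtain ⟨c, hc⟩ := (mem_GSp_iff g.1).1 g.2
  rw [← hmap, ← J_map' ι, ← Matrix.transpose_map, ← Matrix.map_mul, ← Matrix.map_mul] at hc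
  have h1 := congrFun (congrFun hc (Sum.inr (ix0 hm))) (Sum.inl (ix0 hm))
  set a : F₀ := ((Matrix.of A)ᵀ * Matrix.J (Fin m) F₀ * Matrix.of A) (Sum.inr (ix0 hm)) (Sum.inl (ix0 hm))
  have hca : ι a = c := by
    rw [Matrix.map_apply, Matrix.smul_apply, Matrix.map_apply] at h1
    simpa [Matrix.J, a] using h1
  have ha : a ≠ 0 := fun e => c.ne_zero (by rw [← hca, e, map_zero])
  have hmem : Matrix.nonsingInvUnit (Matrix.of A) hdet ∈ Cfsg.GSp m F₀ := by
    refine (mem_GSp_iff _).2 ⟨Units.mk0 a ha, Matrix.map_injective ι.injective (hc.trans ?_)⟩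
    ext i j
    have := congrFun (congrFun (J_map' (m := m) ι) i) j
    simp at this
    simp [hca, this]
  exact ⟨⟨_, hmem⟩, Subtype.ext (Units.ext hmap)⟩

theorem mapGS_embGS (σ : F ≃+* F) (hι : ∀ a : F, σ a = a ↔ a ∈ Set.range ι) (g₀ : Cfsg.GSp m F₀) :
    mapGS σ (embGS ι g₀) = embGS ι g₀ :=
  Subtype.ext (Units.ext (Matrix.ext fun i j => (hι _).2 ⟨g₀.1.val i j, rfl⟩))

theorem range_conjQ_embGS (hm : 2 ≤ m) (σ : F ≃+* F) (hι : ∀ a : F, σ a = a ↔ a ∈ Set.range ι) :
    (conjQ.comp (embGS (m := m) ι)).range = inndiagPSp m F ⊓ Subgroup.centralizer {fieldQ σ} := by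
  ext x
  constructor
  · rintro ⟨g, rfl⟩
    refine ⟨by rw [inndiag_eq_range]; exact ⟨_, rfl⟩, AutPSL.mem_centralizer_singleton.2 ?_⟩
    refine (mem_centralizer_fieldQ_iff hm σ _).2 ⟨1, ?_⟩
    rw [map_one, mul_one, mapGS_embGS ι σ hι]
  · rintro ⟨hx1, hx2⟩
    rw [inndiag_eq_range] at hx1
    obtain ⟨g, rfl⟩ := hx1
    obtain ⟨c, hc⟩ := (mem_centralizer_fieldQ_iff hm σ g).1 (AutPSL.mem_centralizer_singleton.1 hx2)
    obtain ⟨g₀, y, hg₀, rfl⟩ := exists_fixed_rep hm σ g c hc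
    obtain ⟨g₁, rfl⟩ := range_embGS ι hm σ hι hg₀
    exact ⟨g₁, by rw [MonoidHom.comp_apply, map_mul, conjQ_scalGS hm, mul_one]⟩

theorem ker_conjQ_embGS (hm : 2 ≤ m) :
    (conjQ.comp (embGS (m := m) ι)).ker = (Cfsg.Geo.scalars (Fin m ⊕ Fin m) F₀).subgroupOf (Cfsg.GSp m F₀) := by
  ext g
  rw [MonoidHom.mem_ker, MonoidHom.comp_apply, conjQ_eq_one_iff hm, Subgroup.mem_subgroupOf, GraphAut.mem_scalars]
  constructor
  · rintro ⟨z, hz⟩
    have he : ∀ i j, ι (g.1.val i j) = if i = j then (z : F) else 0 := fun i j => by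
      have := congrFun (congrFun (congrArg (fun A : GS => A.1.val) hz) i) j
      simpa [scalGS_coe, Matrix.GeneralLinearGroup.coe_scalar, Matrix.diagonal_apply, embGS, eq_comm] using this
    have h00 : g.1.val (.inl (ix0 hm)) (.inl (ix0 hm)) ≠ 0 := fun h => z.ne_zero (by
      have := he (.inl (ix0 hm)) (.inl (ix0 hm)); rw [h, map_zero, if_pos rfl] at this; exact this.symm)
    refine ⟨Units.mk0 _ h00, Units.ext (Matrix.ext fun i j => ι.injective ?_)⟩
    rw [he i j]
    rcases eq_or_ne i j with rfl | hij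
    · simpa [Matrix.GeneralLinearGroup.coe_scalar] using he (.inl (ix0 hm)) (.inl (ix0 hm))
    · simp [Matrix.GeneralLinearGroup.coe_scalar, hij]
  · rintro ⟨c, hc⟩
    refine ⟨Units.map ι.toMonoidHom c, Subtype.ext (Units.ext (Matrix.ext fun i j => ?_))⟩
    show ((scalGS (Units.map ι.toMonoidHom c) : GS).1 : M2) i j = ι ((g.1 : Matrix (Fin m ⊕ Fin m) (Fin m ⊕ Fin m) F₀) i j)
    have e := congrArg ι (congrFun (congrFun (congrArg (fun A : GL (Fin m ⊕ Fin m) F₀ => A.val) hc) i) j)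
    rw [← e, scalGS_coe]
    clear e hc
    rcases eq_or_ne i j with rfl | hij <;> simp [Matrix.GeneralLinearGroup.coe_scalar, *]

/-- `C_{PGSp(F)}(σ) ≅ PGSp(F₀)`. -/
noncomputable def centralizerFieldEquiv (hm : 2 ≤ m) (σ : F ≃+* F) (hι : ∀ a : F, σ a = a ↔ a ∈ Set.range ι) :
    ↥(inndiagPSp m F ⊓ Subgroup.centralizer {fieldQ σ}) ≃* Cfsg.PGSp m F₀ :=
  (MulEquiv.subgroupCongr (range_conjQ_embGS ι hm σ hι).symm).trans <|
    (QuotientGroup.quotientKerEquivRange (conjQ.comp (embGS (m := m) ι))).symm.trans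
      (QuotientGroup.quotientMulEquivOfEq (ker_conjQ_embGS ι hm))

end Embedding

theorem split_fieldQ (hm : 2 ≤ m) (σ : F ≃+* F) :
    Cfsg.splitClassCount (inndiagPSp m F) (Cfsg.Inn (PSp m F)) (fieldQ σ) =
      Nat.gcd 2 ((Fintype.card F - 1) / (Nat.card (FieldExt.fixedField σ) - 1)) := by
  classical
  rw [AutPSL.splitClassCount_eq _ _ inn_le_inndiag]
  set S := Cfsg.Inn (PSp m F) ⊔ (inndiagPSp m F ⊓ Subgroup.centralizer {fieldQ σ})
  have hcomap : S.comap conjQ =
      ((powMonoidHom 2 : Fˣ →* Fˣ).range ⊔ FieldExt.fixedUnits σ).comap (mult hm : GS →* Fˣ) := by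
    ext g
    rw [Subgroup.mem_comap, Subgroup.mem_comap]
    constructor
    · intro hg
      rw [Subgroup.mem_sup_of_normal_left] at hg
      obtain ⟨a, ha, b, ⟨hb1, hb2⟩, he⟩ := hg
      rw [inndiag_eq_range] at hb1
      obtain ⟨b, rfl⟩ := hb1
      obtain ⟨x, rfl⟩ : ∃ x, conjQ x = a :=
        MonoidHom.mem_range.1 (by rw [← inndiag_eq_range]; exact inn_le_inndiag ha)
      obtain ⟨c, hc⟩ := (mem_centralizer_fieldQ_iff hm σ b).1 (AutPSL.mem_centralizer_singleton.1 hb2)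
      obtain ⟨b₀, y, hb₀, rfl⟩ := exists_fixed_rep hm σ b c hc
      rw [← map_mul] at he
      obtain ⟨z, rfl⟩ := (conjQ_eq_conjQ_iff hm _ _).1 he
      have hfix : mult hm b₀ ∈ FieldExt.fixedUnits σ := by
        rw [FieldExt.mem_fixedUnits]
        have h := mult_spec hm b₀ (Pi.single (Sum.inr (ix0 hm)) 1) (e0 hm)
        rw [B_e0_dual, mul_one] at h
        have hone : ∀ i, (σ ∘ (Pi.single i 1 : Vv) : Vv) = Pi.single i 1 := fun i => funext fun j => by
          rcases eq_or_ne j i with rfl | hj <;> simp [*]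
        have hcol : ∀ i, (σ ∘ (b₀.1.val *ᵥ (Pi.single i 1 : Vv)) : Vv) = b₀.1.val *ᵥ (Pi.single i 1 : Vv) := fun i => by
          funext k
          simp only [Function.comp_apply, Matrix.mulVec_single_one, Matrix.col_apply]
          exact congrFun (congrFun (congrArg (fun A : GS => A.1.val) hb₀) k) i
        rw [← h]
        rw [← B_map, e0, hcol, hcol]
      have hscal : ∀ u : Fˣ, mult hm (scalGS u : GS) ∈ (powMonoidHom 2 : Fˣ →* Fˣ).range := fun u =>
        ⟨u, by rw [mult_scalGS, powMonoidHom_apply, pow_two]⟩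
      rw [map_mul, map_mul, map_mul]
      exact Subgroup.mul_mem _ (Subgroup.mul_mem _ (Subgroup.mem_sup_left ((conjQ_mem_inn_iff hm x).1 ha))
        (Subgroup.mul_mem _ (Subgroup.mem_sup_right hfix) (Subgroup.mem_sup_left (hscal y))))
        (Subgroup.mem_sup_left (hscal z))
    · intro hg
      rw [Subgroup.mem_sup] at hg
      obtain ⟨v', hv', v, hv, he⟩ := hg
      have hbC : (conjQ (diagGS v : GS) : MulAut (PSp m F)) ∈ inndiagPSp m F ⊓ Subgroup.centralizer {fieldQ σ} := by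
        refine ⟨by rw [inndiag_eq_range]; exact ⟨_, rfl⟩,
          AutPSL.mem_centralizer_singleton.2 ((mem_centralizer_fieldQ_iff hm σ _).2 ⟨1, ?_⟩)⟩
        rw [map_one, mul_one]
        refine Subtype.ext (Units.ext (Matrix.ext fun i j => ?_))
        rw [mapGS_coe]
        simp only [diagGS, Matrix.map_apply, Matrix.diagonal_apply]
        rcases eq_or_ne i j with rfl | hij
        · rcases i with i | i
          · simpa using FieldExt.mem_fixedUnits.1 hv
          · simp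
        · simp [hij]
      have hinn : (conjQ (g * (diagGS v)⁻¹) : MulAut (PSp m F)) ∈ Cfsg.Inn (PSp m F) :=
        (conjQ_mem_inn_iff hm _).2 (by
          rwa [map_mul, map_inv, mult_diagGS, ← he, mul_inv_cancel_right])
      have := Subgroup.mul_mem S (Subgroup.mem_sup_left hinn) (Subgroup.mem_sup_right hbC)
      rwa [← map_mul, inv_mul_cancel_right] at this
  rw [inndiag_eq_range, ← Subgroup.index_comap, hcomap,
    Subgroup.index_comap_of_surjective _ (mult_surjective hm),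
    FieldExt.fixedUnits_eq_range_pow, AutPSL.sup_range_pow, IsCyclic.index_powMonoidHom_range, Nat.card_units,
    Nat.card_eq_fintype_card]
  refine Nat.gcd_eq_right ((Nat.gcd_dvd_right _ _).trans (Nat.div_dvd_of_dvd ?_))
  have := Subgroup.card_subgroup_dvd_card (FieldExt.fixedUnits σ)
  rwa [FieldExt.card_fixedUnits, Nat.card_units, Nat.card_eq_fintype_card (α := F)] at this

/-- An element conjugate to a standard field automorphism. -/
theorem exists_std_of_fieldClass {x : MulAut (PSp m F)} (hx : Cfsg.IsFieldAutClassPSp x) :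
    ∃ (α : MulAut (PSp m F)) (σ : F ≃+* F), σ ≠ 1 ∧ x = α * fieldQ σ * α⁻¹ := by
  obtain ⟨α, σ, hσ, hφ⟩ := hx
  refine ⟨α⁻¹, σ, hσ, ?_⟩
  rw [← eq_fieldQ hφ]
  group

theorem orderOf_conj_mul (a y : MulAut (PSp m F)) : orderOf (a * y * a⁻¹) = orderOf y :=
  (MulAut.conj a).orderOf_eq y

theorem orderOf_iff_conj (hm : 2 ≤ m) (α : MulAut (PSp m F)) (σ : F ≃+* F) {r : ℕ} (hr : orderOf σ = r)
    (δ : MulAut (PSp m F)) (hδ : δ ∈ inndiagPSp m F) :
    orderOf (δ * (α * fieldQ σ * α⁻¹)) = r ↔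
      Cfsg.IsConjUnder (inndiagPSp m F) (α * fieldQ σ * α⁻¹) (δ * (α * fieldQ σ * α⁻¹)) := by
  haveI := inndiag_normal (F := F) hm
  constructor
  · intro ho
    have hδ' : α⁻¹ * δ * α ∈ inndiagPSp m F := by
      simpa using Subgroup.Normal.conj_mem inferInstance δ hδ α⁻¹
    rw [inndiag_eq_range] at hδ'
    obtain ⟨g, hg⟩ := hδ'
    have e : δ * (α * fieldQ σ * α⁻¹) = α * (conjQ g * fieldQ σ) * α⁻¹ := by rw [hg]; group
    have hpow : (conjQ g * fieldQ σ : MulAut (PSp m F)) ^ r = 1 := by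
      rw [← ho, e, orderOf_conj_mul, pow_orderOf_eq_one]
    obtain ⟨k, hk⟩ := lang_field hm σ hr g hpow
    refine ⟨α * conjQ k * α⁻¹, Subgroup.Normal.conj_mem inferInstance _ ?_ α, ?_⟩
    · rw [inndiag_eq_range]; exact ⟨k, rfl⟩
    · rw [e, hk]; group
  · rintro ⟨h, -, e⟩
    rw [e, orderOf_conj_mul, orderOf_conj_mul, orderOf_fieldQ hm, hr]

theorem gcd_two_geom {q₀ r : ℕ} (hq₀ : 2 ≤ q₀) :
    Nat.gcd 2 ((q₀ ^ r - 1) / (q₀ - 1)) = Nat.gcd (Nat.gcd 2 (q₀ ^ r - 1)) r := by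
  rcases Nat.eq_zero_or_pos r with rfl | hr
  · simp
  rw [← Nat.geomSum_eq hq₀ r]
  rcases Nat.even_or_odd q₀ with hev | hodd
  · have h1 : Nat.gcd 2 (q₀ ^ r - 1) = 1 := by
      have he : Even (q₀ ^ r) := Even.pow_of_ne_zero hev hr.ne'
      have hp : 1 ≤ q₀ ^ r := Nat.one_le_pow _ _ (by omega)
      have := Nat.even_iff.1 he
      rw [Nat.gcd_rec, show (q₀ ^ r - 1) % 2 = 1 by omega]; rfl
    rw [h1, Nat.gcd_one_left]
    obtain ⟨s, rfl⟩ := Nat.exists_eq_succ_of_ne_zero hr.ne'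
    rw [Finset.sum_range_succ', pow_zero, Nat.gcd_rec, Nat.add_mod, Finset.sum_nat_mod]
    have h0 : ∀ i ∈ Finset.range s, q₀ ^ (i + 1) % 2 = 0 := fun i _ =>
      Nat.even_iff.1 (Even.pow_of_ne_zero hev i.succ_ne_zero)
    rw [Finset.sum_eq_zero h0]; rfl
  · have h1 : Nat.gcd 2 (q₀ ^ r - 1) = 2 := by
      have := Nat.odd_iff.1 (hodd.pow (n := r))
      rw [Nat.gcd_rec, show (q₀ ^ r - 1) % 2 = 0 by omega]; rfl
    have h2 : (∑ i ∈ Finset.range r, q₀ ^ i) % 2 = r % 2 := by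
      rw [Finset.sum_nat_mod, Finset.sum_congr rfl fun i _ => Nat.odd_iff.1 (hodd.pow (n := i))]
      simp
    rw [h1, Nat.gcd_rec 2, h2, ← Nat.gcd_rec]

end Cfsg.Agent.AutPSp
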