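import Cfsg.Agent.Lib.AutPSp.Graph
import Cfsg.Agent.Lib.AutPSp.FieldAut
import Cfsg.Agent.Lib.AutPSLOuter.Outer

/-!
The order of `Aut PSp`.
-/

set_option autoImplicit false
set_option linter.unusedSectionVars false

namespace Cfsg.Agent.AutPSp

open Matrix Cfsg
open Cfsg.Agent.Fusion.SympBlocks

universe u

variable {m : ℕ} {F : Type u} [Field F] [Fintype F]

local notation "Sp" => Matrix.symplecticGroup (Fin m) F
local notation "GS" => Cfsg.GSp m F

theorem card_center (hm : 2 ≤ m) :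
    Nat.card (Subgroup.center Sp) = Nat.gcd 2 (Fintype.card F - 1) := by
  classical
  haveI : Fact (2 ≤ m) := ⟨hm⟩
  rw [Nat.gcd_comm, ← Nat.card_eq_fintype_card (α := F), ← Nat.card_units, ← IsCyclic.card_powMonoidHom_ker (G := Fˣ)]
  refine (Nat.card_congr (Equiv.ofBijective
    (fun a : (powMonoidHom 2 : Fˣ →* Fˣ).ker =>
      (⟨scal ((a : Fˣ) : F) (by
          have h := congrArg Units.val (MonoidHom.mem_ker.1 a.2)
          simpa [pow_two] using h), scal_central _ _⟩ : Subgroup.center Sp)) ⟨fun a b h => ?_, fun z => ?_⟩)).symm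
  · have h1 := congrArg (fun z : Subgroup.center Sp => bA (z : Sp) (ix0 hm) (ix0 hm)) h
    simp [scal] at h1
    exact Subtype.ext (Units.ext h1)
  · obtain ⟨a, ha, e⟩ := center_eq z.2
    exact ⟨⟨⟨a, a, ha, ha⟩, MonoidHom.mem_ker.2 (Units.ext (by simpa [pow_two] using ha))⟩, Subtype.ext e.symm⟩

theorem card_ker_mult (hm : 2 ≤ m) : Nat.card (mult hm : GS →* Fˣ).ker = Nat.card Sp := by
  refine (Nat.card_congr (Equiv.ofBijective
    (fun s : Sp => (⟨toGS s, MonoidHom.mem_ker.2 (mult_toGS hm s)⟩ : (mult hm : GS →* Fˣ).ker)) ⟨fun s t h => ?_, fun g => ?_⟩)).symm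
  · have := congrArg (fun g : (mult hm : GS →* Fˣ).ker => (((g : GS).1 : GL (Fin m ⊕ Fin m) F) : Matrix (Fin m ⊕ Fin m) (Fin m ⊕ Fin m) F)) h
    exact Subtype.ext this
  · obtain ⟨s, hs⟩ := exists_toGS_of_mult_one hm (MonoidHom.mem_ker.1 g.2)
    exact ⟨s, Subtype.ext hs⟩

theorem card_ker_conjQ (hm : 2 ≤ m) : Nat.card (conjQ : GS →* MulAut (PSp m F)).ker = Nat.card Fˣ := by
  refine (Nat.card_congr (Equiv.ofBijective
    (fun z : Fˣ => (⟨scalGS z, MonoidHom.mem_ker.2 (conjQ_scalGS hm z)⟩ : (conjQ : GS →* MulAut (PSp m F)).ker))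
    ⟨fun a b h => ?_, fun g => ?_⟩)).symm
  · have e : (scalGS a : GS) = scalGS b := congrArg Subtype.val h
    have h1 := scalGS_mulVec (m := m) a (e0 hm)
    rw [e, scalGS_mulVec] at h1
    exact Units.ext (smul_left_injective F (e0_ne hm) h1).symm
  · obtain ⟨z, hz⟩ := (conjQ_eq_one_iff hm _).1 (MonoidHom.mem_ker.1 g.2)
    exact ⟨z, Subtype.ext hz⟩

theorem card_inndiag (hm : 2 ≤ m) :
    Nat.card (inndiagPSp m F) = Nat.gcd 2 (Fintype.card F - 1) * Nat.card (PSp m F) := by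
  haveI : Finite GS := inferInstance
  have h1 := Subgroup.card_mul_index (mult hm : GS →* Fˣ).ker
  rw [Subgroup.index_ker, card_ker_mult, MonoidHom.range_eq_top.2 (mult_surjective hm), Subgroup.card_top] at h1
  have h2 := Subgroup.card_mul_index (conjQ : GS →* MulAut (PSp m F)).ker
  rw [Subgroup.index_ker, card_ker_conjQ hm, ← h1, mul_comm (Nat.card Sp)] at h2
  rw [inndiag_eq_range, Nat.eq_of_mul_eq_mul_left Nat.card_pos h2, ← card_center hm]
  exact (Subgroup.card_eq_card_quotient_mul_card_subgroup (Subgroup.center Sp)).trans (mul_comm _ _)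

theorem card_mapsRoots (hm : 2 ≤ m) :
    Nat.card {β : MulAut (PSp m F) // MapsRoots β ∧ MapsRoots β⁻¹} =
      Nat.card (inndiagPSp m F) * Nat.card (F ≃+* F) := by
  rw [← Nat.card_prod]
  refine (Nat.card_congr (Equiv.ofBijective (fun x : inndiagPSp m F × (F ≃+* F) =>
    (⟨x.1.1 * fieldQ x.2, ?_⟩ : {β : MulAut (PSp m F) // MapsRoots β ∧ MapsRoots β⁻¹})) ⟨?_, ?_⟩)).symm
  · obtain ⟨⟨y, hy⟩, σ⟩ := x
    rw [inndiag_eq_range] at hy
    obtain ⟨g, rfl⟩ := hy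
    refine ⟨mapsRoots_semilinear hm g σ, ?_⟩
    obtain ⟨w, hw, e⟩ := mapsRoots_semilinear hm g σ (e0 hm) (e0_ne hm)
    exact (mapsRoots_of_point hm (e0_ne hm) hw e).2
  · rintro ⟨⟨y, hy⟩, σ⟩ ⟨⟨y', hy'⟩, σ'⟩ h
    rw [inndiag_eq_range] at hy hy'
    obtain ⟨g, rfl⟩ := hy
    obtain ⟨g', rfl⟩ := hy'
    have e : conjQ g * fieldQ σ = (conjQ g' * fieldQ σ' : MulAut (PSp m F)) := congrArg Subtype.val h
    obtain ⟨hσ, -⟩ := eq_one_data hm (g := g'⁻¹ * g) (σ := σ * σ'⁻¹) (by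
      rw [map_mul, map_inv, map_mul, map_inv, mul_assoc, ← mul_assoc (conjQ g), e, mul_inv_cancel_right, inv_mul_cancel])
    have hσ' : σ = σ' := mul_inv_eq_one.1 hσ
    subst hσ'
    exact Prod.ext (Subtype.ext (mul_right_cancel e)) rfl
  · rintro ⟨β, h1, h2⟩
    obtain ⟨g, σ, rfl⟩ := exists_decomposition_of hm h1 h2
    exact ⟨(⟨conjQ g, by rw [inndiag_eq_range]; exact ⟨g, rfl⟩⟩, σ), rfl⟩

theorem card_fieldAut {p f : ℕ} [Fact p.Prime] (hf : 1 ≤ f) (hF : Fintype.card F = p ^ f) : Nat.card (F ≃+* F) = f := by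
  obtain ⟨e⟩ := AutPSLOuter.exists_fieldAut_iso (F := F) hf hF
  rw [Nat.card_congr e.toEquiv, Nat.card_congr Multiplicative.toAdd, Nat.card_zmod]

theorem card_aut_large (hm : 2 ≤ m) (p : ℕ) [Fact p.Prime] [CharP F p] (h4 : m = 2 → p ≠ 2) :
    Nat.card (MulAut (PSp m F)) = Nat.card (inndiagPSp m F) * Nat.card (F ≃+* F) := by
  rw [← card_mapsRoots hm]
  exact (Nat.card_congr (Equiv.subtypeUnivEquiv fun β =>
    ⟨fun _ hv => exists_map_root hm p h4 β hv, fun _ hv => exists_map_root hm p h4 β⁻¹ hv⟩)).symm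

theorem card_aut_graph [CharP F 2] :
    Nat.card (MulAut (PSp 2 F)) = 2 * (Nat.card (inndiagPSp 2 F) * Nat.card (F ≃+* F)) := by
  classical
  haveI : Finite (PSp 2 F) := inferInstance
  haveI : Finite (MulAut (PSp 2 F)) := Finite.of_injective (fun e : MulAut (PSp 2 F) => (e : PSp 2 F → PSp 2 F)) DFunLike.coe_injective
  rw [← card_mapsRoots le_rfl]
  set P : MulAut (PSp 2 F) → Prop := fun β => MapsRoots β ∧ MapsRoots β⁻¹
  have hcompl : ∀ β, ¬ P β ↔ P (graphQ⁻¹ * β) := by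
    intro β
    refine ⟨fun h => (mapsRoots_or_graph β).resolve_left h, fun h h' => ?_⟩
    obtain ⟨v, hv, e⟩ := h.2 (e0 le_rfl) (e0_ne le_rfl)
    obtain ⟨w, hw, e'⟩ := h'.1 v hv
    refine not_mapsRoots_graphQ (mapsRoots_of_point le_rfl (e0_ne le_rfl) hw ?_).1
    rw [← e', ← e, ← map_mulAut_mul]
    congr 1
    simp
  rw [← Nat.card_congr (Equiv.sumCompl P), Nat.card_sum, two_mul]
  congr 1
  exact Nat.card_congr (Equiv.subtypeEquiv (Equiv.mulLeft graphQ⁻¹) hcompl)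

end Cfsg.Agent.AutPSp
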