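import Cfsg.Agent.Lib.AutPSp.Roots

/-!
Automorphisms of `PSp` permuting the transvection groups are semilinear.
-/

set_option autoImplicit false
set_option linter.unusedSectionVars false

namespace Cfsg.Agent.AutPSp

open Matrix Cfsg
open Cfsg.Agent.Forms (sympB)

universe u

variable {m : ℕ} {F : Type u} [Field F] [Fintype F]

local notation "Vv" => (Fin m ⊕ Fin m → F)
local notation "M2" => Matrix (Fin m ⊕ Fin m) (Fin m ⊕ Fin m) F
local notation "Sp" => Matrix.symplecticGroup (Fin m) F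
local notation "GS" => Cfsg.GSp m F
local notation "B" => Forms.sympB m F

/-- `β` maps each transvection group to one. -/
def MapsRoots (β : MulAut (PSp m F)) : Prop :=
  ∀ v : Vv, v ≠ 0 → ∃ w : Vv, w ≠ 0 ∧ (root v).map β.toMonoidHom = root w

theorem map_mulAut_mul (β γ : MulAut (PSp m F)) (H : Subgroup (PSp m F)) :
    H.map (β * γ).toMonoidHom = (H.map γ.toMonoidHom).map β.toMonoidHom :=
  (Subgroup.map_map H β.toMonoidHom γ.toMonoidHom).symm

theorem map_mulAut_one (H : Subgroup (PSp m F)) : H.map (1 : MulAut (PSp m F)).toMonoidHom = H :=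
  Subgroup.map_id H

theorem scalar_of_points {z : M2} (h : ∀ v : Vv, v ≠ 0 → Prop₁ v (z *ᵥ v)) : ∃ a : F, ∀ x : Vv, z *ᵥ x = a • x := by
  obtain ⟨c, hc⟩ := LinearMap.exists_eq_smul_id_of_forall_notLinearIndependent
    (f := Matrix.toLin' z) fun v hli => by
      obtain ⟨a, -, ha⟩ := h v (hli.ne_zero 0)
      have := LinearIndependent.pair_iff.1 hli a (-1) (by
        rw [Matrix.toLin'_apply, ha, neg_one_smul, add_neg_cancel])
      exact neg_ne_zero.2 (one_ne_zero (α := F)) this.2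
  exact ⟨c, fun x => by simpa using LinearMap.congr_fun hc x⟩

theorem eq_one_of_fix_roots (hm : 2 ≤ m) {β : MulAut (PSp m F)}
    (h : ∀ v : Vv, v ≠ 0 → (root v).map β.toMonoidHom = root v) : β = 1 := by
  refine MulEquiv.ext fun x => ?_
  obtain ⟨s, rfl⟩ := QuotientGroup.mk_surjective x
  obtain ⟨t, ht⟩ := QuotientGroup.mk_surjective (β (QuotientGroup.mk s))
  show β (QuotientGroup.mk s) = QuotientGroup.mk s
  have key : ∀ v : Vv, v ≠ 0 → root ((s : M2) *ᵥ v) = root ((t : M2) *ᵥ v) := by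
    intro v hv
    have hne : (s : M2) *ᵥ v ≠ 0 := fun e => hv (sp_inj s e)
    rw [← h _ hne, ← root_conj, ← root_conj, Subgroup.map_map]
    conv_rhs => rw [← h v hv, Subgroup.map_map, ht]
    congr 1
    refine MonoidHom.ext fun y => ?_
    simp
  obtain ⟨a, ha⟩ := scalar_of_points (z := ((s⁻¹ * t : Sp) : M2)) fun v hv => by
    obtain ⟨c, hc, e⟩ := root_inj hm (fun e => hv (sp_inj s e)) (fun e => hv (sp_inj t e)) (key v hv)
    exact ⟨c, hc, by
      rw [Submonoid.coe_mul, ← Matrix.mulVec_mulVec, e, Matrix.mulVec_smul, Matrix.mulVec_mulVec,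
        ← Submonoid.coe_mul, inv_mul_cancel, Submonoid.coe_one, Matrix.one_mulVec]⟩
  rw [← ht]
  exact (QuotientGroup.eq.2 (mem_center_of_scalar ha)).symm

theorem cSp_tv (g : GS) (v : Vv) (c : F) :
    ∃ d : F, cSp g (tv v c) = tv (((g.1 : GL (Fin m ⊕ Fin m) F) : M2) *ᵥ v) d := by
  obtain ⟨μ, hμ⟩ := g.2
  refine ⟨c * (↑μ⁻¹ : F), ext_mulVec fun x => ?_⟩
  obtain ⟨y, rfl⟩ : ∃ y, ((g.1 : GL (Fin m ⊕ Fin m) F) : M2) *ᵥ y = x :=
    ⟨((g.1⁻¹ : GL (Fin m ⊕ Fin m) F) : M2) *ᵥ x, by rw [Matrix.mulVec_mulVec, Units.mul_inv, Matrix.one_mulVec]⟩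
  rw [cSp_coe, ← Matrix.mulVec_mulVec, ← Matrix.mulVec_mulVec, Matrix.mulVec_mulVec y, Units.inv_mul,
    Matrix.one_mulVec, tv_apply, tv_apply, Matrix.mulVec_add, Matrix.mulVec_smul, Forms.sympB_apply (F := F),
    Forms.sympB_apply (F := F), hμ, mul_assoc c, Units.inv_mul_cancel_left]

theorem root_conjQ (hm : 2 ≤ m) (g : GS) {v : Vv} (hv : v ≠ 0) :
    (root v).map (conjQ g).toMonoidHom = root (((g.1 : GL (Fin m ⊕ Fin m) F) : M2) *ᵥ v) := by
  haveI : Finite (PSp m F) := inferInstance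
  have hne : ((g.1 : GL (Fin m ⊕ Fin m) F) : M2) *ᵥ v ≠ 0 := fun e => hv (by
    simpa [Matrix.mulVec_mulVec, Matrix.mulVec_zero] using congrArg (((g.1⁻¹ : GL (Fin m ⊕ Fin m) F) : M2) *ᵥ ·) e)
  refine Subgroup.eq_of_le_of_card_ge ?_ (by
    rw [Subgroup.card_map_of_injective (f := (conjQ g).toMonoidHom) (conjQ g).injective, card_root hm hv, card_root hm hne])
  rintro _ ⟨z, hz, rfl⟩
  obtain ⟨c, rfl⟩ := mem_root.1 hz
  obtain ⟨d, hd⟩ := cSp_tv g v c
  exact mem_root.2 ⟨d, by show conjQ g (QuotientGroup.mk _) = _; rw [conjQ_mk, hd]⟩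

theorem B_map (σ : F ≃+* F) (a b : Vv) : B (σ ∘ a) (σ ∘ b) = σ (B a b) := by
  simp [Forms.sympB_apply, Forms.sympForm_eq_sum]

theorem fieldS_tv (σ : F ≃+* F) (v : Vv) (c : F) : fieldS σ (tv v c) = tv (σ ∘ v) (σ c) := by
  refine ext_mulVec fun x => ?_
  obtain ⟨y, rfl⟩ : ∃ y, σ ∘ y = x := ⟨σ.symm ∘ x, funext fun i => σ.apply_symm_apply _⟩
  rw [fieldS_coe, tv_apply, B_map, ← map_mul]
  refine funext fun i => ((RingHom.map_mulVec σ.toRingHom (tv v c : M2) y i).symm.trans ?_)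
  rw [tv_apply]
  simp

theorem comp_ne (σ : F ≃+* F) {v : Vv} (hv : v ≠ 0) : (σ ∘ v : Vv) ≠ 0 := fun e =>
  hv (funext fun i => σ.injective (by simpa using congrFun e i))

theorem root_fieldQ (hm : 2 ≤ m) (σ : F ≃+* F) {v : Vv} (hv : v ≠ 0) :
    (root v).map (fieldQ σ : MulAut (PSp m F)).toMonoidHom = root (σ ∘ v : Vv) := by
  haveI : Finite (PSp m F) := inferInstance
  refine Subgroup.eq_of_le_of_card_ge ?_ (by
    rw [Subgroup.card_map_of_injective (f := (fieldQ σ : MulAut (PSp m F)).toMonoidHom) (fieldQ σ : MulAut (PSp m F)).injective, card_root hm hv,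
      card_root hm (comp_ne σ hv)])
  rintro _ ⟨z, hz, rfl⟩
  obtain ⟨c, rfl⟩ := mem_root.1 hz
  exact mem_root.2 ⟨σ c, by show fieldQ σ (QuotientGroup.mk _) = _; rw [fieldQ_mk, fieldS_tv]⟩

theorem root_semilinear (hm : 2 ≤ m) (g : GS) (σ : F ≃+* F) {v : Vv} (hv : v ≠ 0) :
    (root v).map (conjQ g * fieldQ σ : MulAut (PSp m F)).toMonoidHom =
      root (((g.1 : GL (Fin m ⊕ Fin m) F) : M2) *ᵥ (σ ∘ v)) := by
  rw [map_mulAut_mul, root_fieldQ hm σ hv, root_conjQ hm g (comp_ne σ hv)]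

theorem mapsRoots_semilinear (hm : 2 ≤ m) (g : GS) (σ : F ≃+* F) :
    MapsRoots (conjQ g * fieldQ σ : MulAut (PSp m F)) := fun v hv =>
  ⟨_, fun e => comp_ne σ hv (by
    simpa [Matrix.mulVec_mulVec, Matrix.mulVec_zero] using congrArg (((g.1⁻¹ : GL (Fin m ⊕ Fin m) F) : M2) *ᵥ ·) e),
    root_semilinear hm g σ hv⟩

/-- An automorphism permuting transvection groups is semilinear. -/
theorem exists_decomposition_of (hm : 2 ≤ m) {β : MulAut (PSp m F)} (hβ : MapsRoots β) (hβ' : MapsRoots β⁻¹) :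
    ∃ (g : GS) (σ : F ≃+* F), β = conjQ g * fieldQ σ := by
  classical
  choose fw hfw using hβ
  let f : Vv → Vv := fun v => if h : v = 0 then 0 else fw v h
  have hf : ∀ v : Vv, v ≠ 0 → f v ≠ 0 ∧ (root v).map β.toMonoidHom = root (f v) := fun v hv => by
    simp only [f, dif_neg hv]; exact hfw v hv
  have hperp : ∀ v w : Vv, v ≠ 0 → w ≠ 0 → (B (f v) (f w) = 0 ↔ B v w = 0) := by
    intro v w hv hw
    rw [← root_commute_iff hm (hf v hv).1 (hf w hw).1, ← root_commute_iff hm hv hw, ← (hf v hv).2, ← (hf w hw).2]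
    constructor
    · intro h x hx y hy
      exact β.injective (by rw [map_mul, map_mul]; exact h _ ⟨x, hx, rfl⟩ _ ⟨y, hy, rfl⟩)
    · rintro h _ ⟨x, hx, rfl⟩ _ ⟨y, hy, rfl⟩
      rw [← map_mul, h x hx y hy, map_mul]
  have hsurj : ∀ y : Vv, y ≠ 0 → ∃ x, x ≠ 0 ∧ Prop₁ y (f x) := by
    intro y hy
    obtain ⟨x, hx, e⟩ := hβ' y hy
    refine ⟨x, hx, root_inj hm hy (hf x hx).1 ?_⟩
    rw [← (hf x hx).2, ← e, ← map_mulAut_mul, mul_inv_cancel, map_mulAut_one]
  have hcol : Collineation f := by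
    refine ⟨fun x hx => (hf x hx).1, fun x y hx hy h => ?_, hsurj, fun x y z hx hy hz => ?_⟩
    · refine root_inj hm hx hy (Subgroup.map_injective (f := β.toMonoidHom) β.injective ?_)
      show (root x).map β.toMonoidHom = (root y).map β.toMonoidHom
      rw [(hf x hx).2, (hf y hy).2, root_congr h]
    · rintro ⟨a, b, hab⟩
      have hker : ⨅ i : Fin 2, LinearMap.ker ((Forms.sympB m F).flip (![f x, f y] i)) ≤
          LinearMap.ker ((Forms.sympB m F).flip (f z)) := by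
        intro w hw
        simp only [Submodule.mem_iInf, LinearMap.mem_ker, LinearMap.flip_apply] at hw ⊢
        by_cases hw0 : w = 0
        · simp [hw0]
        obtain ⟨v, hv, c, hc, e⟩ := hsurj w hw0
        have hwe : w = c⁻¹ • f v := by rw [e, smul_smul, inv_mul_cancel₀ hc, one_smul]
        have h1 : B v x = 0 := (hperp v x hv hx).1 (by
          have := hw 0; rw [hwe] at this; simpa [hc] using this)
        have h2 : B v y = 0 := (hperp v y hv hy).1 (by
          have := hw 1; rw [hwe] at this; simpa [hc] using this)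
        show B w (f z) = 0
        rw [hwe, map_smul, LinearMap.smul_apply, (hperp v z hv hz).2 (by simp [hab, h1, h2]), smul_zero]
      obtain ⟨co, hco⟩ := (Submodule.mem_span_range_iff_exists_fun F).1 (mem_span_of_iInf_ker_le_ker hker)
      refine ⟨co 0, co 1, sub_eq_zero.1 (B_sep fun w => ?_)⟩
      have := LinearMap.congr_fun hco w
      simp [Fin.sum_univ_two] at this
      simp [← this]
  obtain ⟨g₀, σ, hg⟩ := exists_semilinear (by simp [Fintype.card_sum]; omega) hcol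
  set G : GL (Fin m ⊕ Fin m) F :=
    ⟨LinearMap.toMatrix' g₀.toLinearMap, LinearMap.toMatrix' g₀.symm.toLinearMap,
      by rw [← LinearMap.toMatrix'_comp, LinearEquiv.comp_coe, LinearEquiv.symm_trans_self]; exact LinearMap.toMatrix'_id,
      by rw [← LinearMap.toMatrix'_comp, LinearEquiv.comp_coe, LinearEquiv.self_trans_symm]; exact LinearMap.toMatrix'_id⟩
  have hG : ∀ x, (G : M2) *ᵥ x = g₀ x := fun x => LinearMap.toMatrix'_mulVec g₀.toLinearMap x
  have hperp' : ∀ u v : Vv, B u v = 0 → B (g₀ u) (g₀ v) = 0 := by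
    intro u v huv
    by_cases hu : u = 0
    · simp [hu]
    by_cases hv : v = 0
    · simp [hv]
    have hu' : (σ.symm ∘ u : Vv) ≠ 0 := comp_ne σ.symm hu
    have hv' : (σ.symm ∘ v : Vv) ≠ 0 := comp_ne σ.symm hv
    obtain ⟨a, ha, ea⟩ := hg _ hu'
    obtain ⟨b, hb, eb⟩ := hg _ hv'
    simp only [Function.comp_apply, RingEquiv.apply_symm_apply] at ea eb
    rw [ea, eb, map_smul, map_smul, LinearMap.smul_apply, (hperp _ _ hu' hv').2 (by
      rw [B_map, huv, map_zero]), smul_zero, smul_zero]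
  have hmul : ∀ u : Vv, ∃ c : F, ∀ v, B (g₀ u) (g₀ v) = c * B u v := by
    intro u
    have hle : ⨅ i : Fin 1, LinearMap.ker ((fun _ => B u) i) ≤ LinearMap.ker ((B (g₀ u)).comp g₀.toLinearMap) := by
      intro v hv
      simp only [Submodule.mem_iInf, LinearMap.mem_ker] at hv
      exact hperp' u v (hv 0)
    obtain ⟨co, hco⟩ := (Submodule.mem_span_range_iff_exists_fun F).1 (mem_span_of_iInf_ker_le_ker hle)
    exact ⟨co 0, fun v => by
      have := LinearMap.congr_fun hco v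
      simpa using this.symm⟩
  choose cu hcu using hmul
  have heq : ∀ u v, B u v ≠ 0 → cu u = cu v := by
    intro u v h
    have h1 := hcu v u
    rw [B_swap u v, B_swap (g₀ u) (g₀ v), hcu u v, mul_neg, neg_inj] at h1
    exact mul_right_cancel₀ h h1
  have hcone : ∀ u u' : Vv, u ≠ 0 → u' ≠ 0 → cu u = cu u' := by
    intro u u' hu hu'
    suffices ∃ w, B u w ≠ 0 ∧ B u' w ≠ 0 by
      obtain ⟨w, h1, h2⟩ := this
      rw [heq u w h1, heq u' w h2]
    obtain ⟨a, ha⟩ := exists_B_ne hu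
    obtain ⟨b, hb⟩ := exists_B_ne hu'
    rw [Ne, B_eq_zero_comm] at ha hb
    by_cases h1 : B u' a = 0
    · by_cases h2 : B u b = 0
      · exact ⟨a + b, by simpa [h2] using ha, by simpa [h1] using hb⟩
      · exact ⟨b, h2, hb⟩
    · exact ⟨a, ha, h1⟩
  have hc0 : cu (e0 hm) ≠ 0 := fun h0 => by
    obtain ⟨x, hx⟩ := exists_B_ne (e0_ne (F := F) hm)
    refine e0_ne hm (g₀.injective ?_)
    rw [map_zero]
    refine B_sep fun w => ?_
    obtain ⟨v, rfl⟩ := g₀.surjective w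
    rw [B_eq_zero_comm, hcu, h0, zero_mul]
  have hmem : G ∈ Cfsg.GSp m F := ⟨Units.mk0 _ hc0, fun u v => by
    show sympForm m F ((G : M2) *ᵥ u) ((G : M2) *ᵥ v) = cu (e0 hm) * sympForm m F u v
    rw [hG, hG, ← Forms.sympB_apply, ← Forms.sympB_apply, hcu u v]
    rcases eq_or_ne u 0 with rfl | hu
    · simp
    · rw [hcone u (e0 hm) hu (e0_ne hm)]⟩
  refine ⟨⟨G, hmem⟩, σ, ?_⟩
  have h1 : (conjQ ⟨G, hmem⟩ * fieldQ σ : MulAut (PSp m F))⁻¹ * β = 1 := by
    refine eq_one_of_fix_roots hm fun v hv => ?_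
    rw [map_mulAut_mul, (hf v hv).2, root_congr (hg v hv),
      show (g₀ fun i => σ (v i)) = ((G : M2) *ᵥ (σ ∘ v : Vv)) from (hG _).symm,
      ← root_semilinear hm ⟨G, hmem⟩ σ hv, ← map_mulAut_mul, inv_mul_cancel, map_mulAut_one]
  exact (inv_mul_eq_one.1 h1).symm

/-- Every automorphism of `PSp` is semilinear, outside `PSp₄` in characteristic two. -/
theorem exists_decomposition (hm : 2 ≤ m) (p : ℕ) [Fact p.Prime] [CharP F p] (h4 : m = 2 → p ≠ 2)
    (β : MulAut (PSp m F)) : ∃ (g : GS) (σ : F ≃+* F), β = conjQ g * fieldQ σ :=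
  exists_decomposition_of hm (fun _ hv => exists_map_root hm p h4 β hv) fun _ hv => exists_map_root hm p h4 β⁻¹ hv

theorem gammaPSp_eq_top (hm : 2 ≤ m) (p : ℕ) [Fact p.Prime] [CharP F p] (h4 : m = 2 → p ≠ 2) :
    gammaPSp m F = ⊤ := by
  refine eq_top_iff.2 fun β _ => ?_
  obtain ⟨g, σ, rfl⟩ := exists_decomposition hm p h4 β
  exact mem_gamma g σ

/-- The semilinear data of an automorphism is unique up to scalars. -/
theorem eq_one_data (hm : 2 ≤ m) {g : GS} {σ : F ≃+* F} (h : (conjQ g * fieldQ σ : MulAut (PSp m F)) = 1) :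
    σ = 1 ∧ ∃ a : F, ∀ x : Vv, ((g.1 : GL (Fin m ⊕ Fin m) F) : M2) *ᵥ x = a • x := by
  have hp : ∀ v : Vv, v ≠ 0 → Prop₁ v (((g.1 : GL (Fin m ⊕ Fin m) F) : M2) *ᵥ (σ ∘ v)) := by
    intro v hv
    have e := root_semilinear hm g σ hv
    rw [h, map_mulAut_one] at e
    obtain ⟨w, hw, e'⟩ := mapsRoots_semilinear hm g σ v hv
    refine root_inj hm hv (fun e0' => ?_) e
    rw [h, map_mulAut_one] at e'
    exact comp_ne σ hv (by
      simpa [Matrix.mulVec_mulVec, Matrix.mulVec_zero] using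
        congrArg (((g.1⁻¹ : GL (Fin m ⊕ Fin m) F) : M2) *ᵥ ·) e0')
  have hs : ∀ t, σ t = t := by
    intro t
    have hc1 : ∀ v : Vv, (σ ∘ v : Vv) = v → v ≠ 0 → ∃ c : F, ((g.1 : GL (Fin m ⊕ Fin m) F) : M2) *ᵥ v = c • v := by
      intro v hσv hv
      obtain ⟨c, -, e⟩ := hp v hv
      rw [hσv] at e
      exact ⟨c, e⟩
    have h01 := ix0_ne_ix1 hm
    have hσe : ∀ i, (σ ∘ (Pi.single i 1 : Vv) : Vv) = Pi.single i 1 := fun i => funext fun j => by
      rcases eq_or_ne j i with rfl | hj <;> simp [*]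
    obtain ⟨a, ha⟩ := hc1 (e0 hm) (hσe _) (e0_ne hm)
    obtain ⟨b, hb⟩ := hc1 (e1 hm) (hσe _) (by simp [e1])
    obtain ⟨c, hc⟩ := hc1 (e0 hm + e1 hm) (by
        funext j
        simpa [e0, e1] using congrArg₂ (· + ·) (congrFun (hσe (Sum.inl (ix0 hm))) j) (congrFun (hσe (Sum.inl (ix1 hm))) j))
      (fun e => by simpa [e0, e1, h01] using congrFun e (Sum.inl (ix0 hm)))
    rw [Matrix.mulVec_add, ha, hb] at hc
    have hab : a = b := by
      have h0 := congrFun hc (Sum.inl (ix0 hm))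
      have h1 := congrFun hc (Sum.inl (ix1 hm))
      simp [e0, e1, h01, h01.symm] at h0 h1
      rw [h0, h1]
    obtain ⟨d, hd0, hd⟩ := hp (e0 hm + t • e1 hm)
      (fun e => by simpa [e0, e1, h01] using congrFun e (Sum.inl (ix0 hm)))
    rw [show (σ ∘ (e0 hm + t • e1 hm) : Vv) = e0 hm + σ t • e1 hm by
      funext j
      have x0 := congrFun (hσe (Sum.inl (ix0 hm))) j
      have x1 := congrFun (hσe (Sum.inl (ix1 hm))) j
      simp only [Function.comp_apply] at x0 x1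
      simp [e0, e1, x0, x1], Matrix.mulVec_add, Matrix.mulVec_smul, ha, hb] at hd
    have h0 := congrFun hd (Sum.inl (ix0 hm))
    have h1 := congrFun hd (Sum.inl (ix1 hm))
    simp [e0, e1, h01, h01.symm] at h0 h1
    rw [← hab, h0, mul_comm (σ t) d] at h1
    exact mul_left_cancel₀ hd0 h1
  refine ⟨RingEquiv.ext hs, scalar_of_points fun v hv => ?_⟩
  have := hp v hv
  rwa [show (σ ∘ v : Vv) = v from funext fun i => hs (v i)] at this

end Cfsg.Agent.AutPSp
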