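import Cfsg.Agent.Lib.AutPSp.Decomposition
import Cfsg.Agent.Lib.GraphAut.Sim
import Cfsg.Prelude.Def_KGroupFacts

/-!
Multipliers of similitudes, kernels and normality of the inner-diagonal group of `PSp`.
-/

set_option autoImplicit false
set_option linter.unusedSectionVars false

namespace Cfsg.Agent.AutPSp

open Matrix Cfsg
open Cfsg.Agent.Forms (sympB)

universe u

variable {m : ℕ} {F : Type u} [Field F] [Fintype F]

local notation "Vv" => (Fin m ⊕ Fin m → F)
local notation "M2" => Matrix (Fin m ⊕ Fin m) (Fin m ⊕ Fin m) F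
local notation "Sp" => Matrix.symplecticGroup (Fin m) F
local notation "GS" => Cfsg.GSp m F
local notation "B" => Forms.sympB m F
local notation "mat" g => ((g : GL (Fin m ⊕ Fin m) F) : M2)

theorem exists_mult (g : GS) : ∃ c : Fˣ, ∀ u v, B ((mat g.1) *ᵥ u) ((mat g.1) *ᵥ v) = (c : F) * B u v := by
  obtain ⟨c, hc⟩ := g.2
  exact ⟨c, fun u v => by simp only [Forms.sympB_apply]; exact hc u v⟩

theorem B_e0_dual (hm : 2 ≤ m) : B (Pi.single (Sum.inr (ix0 hm)) 1 : Vv) (e0 hm) = 1 := by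
  rw [Forms.sympB_apply, Forms.sympForm_eq_sum, Finset.sum_eq_single (ix0 hm)] <;>
    simp +contextual [e0, Pi.single_apply]

theorem mult_unique (hm : 2 ≤ m) {g : GS} {c d : Fˣ}
    (h : ∀ u v, B ((mat g.1) *ᵥ u) ((mat g.1) *ᵥ v) = (c : F) * B u v)
    (h' : ∀ u v, B ((mat g.1) *ᵥ u) ((mat g.1) *ᵥ v) = (d : F) * B u v) : c = d := by
  have := (h (Pi.single (Sum.inr (ix0 hm)) 1) (e0 hm)).symm.trans (h' _ _)
  rw [B_e0_dual, mul_one, mul_one] at this
  exact Units.ext this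

/-- The multiplier. -/
noncomputable def mult (hm : 2 ≤ m) : GS →* Fˣ where
  toFun g := (exists_mult g).choose
  map_one' := mult_unique hm (exists_mult 1).choose_spec fun u v => by simp
  map_mul' g h := mult_unique hm (exists_mult (g * h)).choose_spec fun u v => by
    rw [Subgroup.coe_mul, Units.val_mul, ← Matrix.mulVec_mulVec, ← Matrix.mulVec_mulVec,
      (exists_mult g).choose_spec, (exists_mult h).choose_spec, Units.val_mul, mul_assoc]

theorem mult_spec (hm : 2 ≤ m) (g : GS) (u v : Vv) :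
    B ((mat g.1) *ᵥ u) ((mat g.1) *ᵥ v) = (mult hm g : F) * B u v := (exists_mult g).choose_spec u v

theorem mult_eq (hm : 2 ≤ m) {g : GS} {c : Fˣ}
    (h : ∀ u v, B ((mat g.1) *ᵥ u) ((mat g.1) *ᵥ v) = (c : F) * B u v) : mult hm g = c :=
  mult_unique hm (mult_spec hm g) h

theorem scalar_mem (z : Fˣ) : Matrix.GeneralLinearGroup.scalar (Fin m ⊕ Fin m) z ∈ Cfsg.GSp m F := by
  rw [GraphAut.GSp_eq]; exact GraphAut.scalar_mem_simM _ z

/-- A scalar similitude. -/
def scalGS : Fˣ →* GS where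
  toFun z := ⟨_, scalar_mem z⟩
  map_one' := Subtype.ext (map_one _)
  map_mul' a b := Subtype.ext (map_mul _ _ _)

theorem scalGS_coe (z : Fˣ) : ((scalGS z : GS).1 : GL (Fin m ⊕ Fin m) F) = Matrix.GeneralLinearGroup.scalar _ z := rfl

theorem scalGS_mulVec (z : Fˣ) (x : Vv) : (mat (scalGS z : GS).1) *ᵥ x = (z : F) • x := by
  rw [scalGS_coe, Matrix.GeneralLinearGroup.coe_scalar]
  funext i
  simp [Matrix.mulVec_diagonal]

theorem scalGS_comm (z : Fˣ) (g : GS) : scalGS z * g = g * scalGS z := by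
  refine Subtype.ext (Units.ext (Matrix.ext_iff_mulVec.2 fun x => ?_))
  simp only [Subgroup.coe_mul, Units.val_mul, ← Matrix.mulVec_mulVec, scalGS_mulVec, Matrix.mulVec_smul]

theorem mult_scalGS (hm : 2 ≤ m) (z : Fˣ) : mult hm (scalGS z : GS) = z * z :=
  mult_eq hm fun u v => by
    rw [scalGS_mulVec, scalGS_mulVec, map_smul, map_smul, LinearMap.smul_apply, smul_eq_mul, smul_eq_mul,
      Units.val_mul, mul_assoc]

theorem mult_toGS (hm : 2 ≤ m) (s : Sp) : mult hm (toGS s) = 1 :=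
  mult_eq hm fun u v => by rw [toGS_coe, B_sp, Units.val_one, one_mul]

theorem exists_toGS_of_mult_one (hm : 2 ≤ m) {g : GS} (h : mult hm g = 1) : ∃ s : Sp, toGS s = g := by
  refine ⟨⟨mat g.1, mem_sp_iff.2 fun u v => ?_⟩, Subtype.ext (Units.ext rfl)⟩
  rw [mult_spec hm, h, Units.val_one, one_mul]

theorem conjQ_eq_one_iff (hm : 2 ≤ m) (g : GS) :
    (conjQ g : MulAut (PSp m F)) = 1 ↔ ∃ z : Fˣ, scalGS z = g := by
  constructor
  · intro h
    obtain ⟨-, a, ha⟩ := eq_one_data hm (g := g) (σ := 1) (by rw [h, map_one, mul_one])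
    have ha0 : a ≠ 0 := fun e0' => by
      have := mult_spec hm g (Pi.single (Sum.inr (ix0 hm)) 1) (e0 hm)
      rw [ha, ha, e0', zero_smul, zero_smul, map_zero, B_e0_dual, mul_one] at this
      exact (mult hm g).ne_zero this.symm
    exact ⟨Units.mk0 a ha0, Subtype.ext (Units.ext (Matrix.ext_iff_mulVec.2 fun x => by
      rw [scalGS_mulVec, ha, Units.val_mk0]))⟩
  · rintro ⟨z, rfl⟩
    refine MulEquiv.ext fun x => ?_
    induction x using QuotientGroup.induction_on with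
    | _ s =>
      rw [conjQ_mk, MulAut.one_apply]
      refine congrArg QuotientGroup.mk (Subtype.ext ?_)
      rw [cSp_coe, scalGS_coe, Matrix.GeneralLinearGroup.coe_scalar, ← map_inv,
        Matrix.GeneralLinearGroup.coe_scalar]
      ext i j
      simp [Matrix.diagonal_mul, Matrix.mul_diagonal]
      field_simp

theorem conjQ_eq_conjQ_iff (hm : 2 ≤ m) (g h : GS) :
    (conjQ g : MulAut (PSp m F)) = conjQ h ↔ ∃ z : Fˣ, h = g * scalGS z := by
  rw [← inv_mul_eq_one, ← map_inv, ← map_mul, conjQ_eq_one_iff hm]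
  exact exists_congr fun z => by rw [eq_comm, inv_mul_eq_iff_eq_mul]

theorem conjQ_scalGS (hm : 2 ≤ m) (z : Fˣ) : (conjQ (scalGS z : GS) : MulAut (PSp m F)) = 1 :=
  (conjQ_eq_one_iff hm _).2 ⟨z, rfl⟩

theorem fieldQ_eq_one_iff (hm : 2 ≤ m) {σ : F ≃+* F} : (fieldQ σ : MulAut (PSp m F)) = 1 ↔ σ = 1 := by
  refine ⟨fun h => (eq_one_data hm (g := (1 : GS)) (σ := σ) ?_).1, fun h => h ▸ map_one fieldQ⟩
  rw [map_one, one_mul, h]

theorem fieldQ_injective (hm : 2 ≤ m) : Function.Injective (fieldQ : (F ≃+* F) → MulAut (PSp m F)) :=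
  (injective_iff_map_eq_one _).2 fun _ h => (fieldQ_eq_one_iff hm).1 h

theorem orderOf_fieldQ (hm : 2 ≤ m) (σ : F ≃+* F) : orderOf (fieldQ σ : MulAut (PSp m F)) = orderOf σ :=
  orderOf_injective fieldQ (fieldQ_injective hm) σ

/-- The similitude `diag(c, 1)`. -/
def diagGS (c : Fˣ) : GS :=
  ⟨⟨Matrix.diagonal (Sum.elim (fun _ => (c : F)) fun _ => 1), Matrix.diagonal (Sum.elim (fun _ => (↑c⁻¹ : F)) fun _ => 1),
    by rw [Matrix.diagonal_mul_diagonal, ← Matrix.diagonal_one]; congr 1; funext i; cases i <;> simp,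
    by rw [Matrix.diagonal_mul_diagonal, ← Matrix.diagonal_one]; congr 1; funext i; cases i <;> simp⟩, c, fun u v => by
      simp only [Forms.sympForm_eq_sum, Finset.mul_sum]
      refine Finset.sum_congr rfl fun i _ => ?_
      simp [Matrix.mulVec_diagonal]
      ring⟩

theorem mult_diagGS (hm : 2 ≤ m) (c : Fˣ) : mult hm (diagGS c : GS) = c :=
  mult_eq hm fun u v => by
    simp only [Forms.sympB_apply, Forms.sympForm_eq_sum, Finset.mul_sum]
    refine Finset.sum_congr rfl fun i _ => ?_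
    simp [diagGS, Matrix.mulVec_diagonal]
    ring

theorem mult_surjective (hm : 2 ≤ m) : Function.Surjective (mult hm : GS → Fˣ) :=
  fun c => ⟨diagGS c, mult_diagGS hm c⟩

theorem conjQ_mem_inn_iff (hm : 2 ≤ m) (g : GS) :
    (conjQ g : MulAut (PSp m F)) ∈ Cfsg.Inn (PSp m F) ↔ mult hm g ∈ (powMonoidHom 2 : Fˣ →* Fˣ).range := by
  constructor
  · rintro ⟨x, hx⟩
    obtain ⟨s, rfl⟩ := QuotientGroup.mk_surjective x
    rw [← conjQ_toGS, conjQ_eq_conjQ_iff hm] at hx
    obtain ⟨z, rfl⟩ := hx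
    exact ⟨z, by rw [map_mul, mult_toGS, mult_scalGS, one_mul, powMonoidHom_apply, pow_two]⟩
  · rintro ⟨z, hz⟩
    obtain ⟨s, hs⟩ := exists_toGS_of_mult_one hm (g := g * scalGS z⁻¹) (by
      rw [map_mul, mult_scalGS, ← hz, powMonoidHom_apply, pow_two, ← mul_inv, mul_inv_cancel])
    refine ⟨QuotientGroup.mk s, ?_⟩
    rw [← conjQ_toGS, hs, map_mul, conjQ_scalGS hm, mul_one]

theorem inn_le_inndiag : Cfsg.Inn (PSp m F) ≤ inndiagPSp m F := by
  rintro _ ⟨x, rfl⟩
  obtain ⟨s, rfl⟩ := QuotientGroup.mk_surjective x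
  rw [inndiag_eq_range, ← conjQ_toGS]
  exact ⟨_, rfl⟩

theorem inndiag_normal (hm : 2 ≤ m) : (inndiagPSp m F).Normal := by
  obtain ⟨p, hp⟩ := CharP.exists F
  haveI : Fact p.Prime := ⟨CharP.char_is_prime F p⟩
  by_cases h2 : p = 2
  · subst h2
    have : inndiagPSp m F = Cfsg.Inn (PSp m F) := by
      refine le_antisymm ?_ inn_le_inndiag
      rw [inndiag_eq_range]
      rintro _ ⟨g, rfl⟩
      refine (conjQ_mem_inn_iff hm g).2 ?_
      obtain ⟨r, hr⟩ := FiniteField.isSquare_of_char_two (ringChar.eq F 2) (mult hm g : F)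
      have hr0 : r ≠ 0 := fun e => (mult hm g).ne_zero (by rw [hr, e, mul_zero])
      exact ⟨Units.mk0 r hr0, Units.ext (by rw [powMonoidHom_apply, pow_two, Units.val_mul, Units.val_mk0]; exact hr.symm)⟩
    rw [this]; infer_instance
  · refine ⟨fun x hx β => ?_⟩
    rw [inndiag_eq_range] at hx ⊢
    obtain ⟨g, rfl⟩ := hx
    obtain ⟨h, σ, rfl⟩ := exists_decomposition hm p (fun _ => h2) β
    refine ⟨h * mapGS σ g * h⁻¹, ?_⟩
    rw [map_mul, map_mul, map_inv, _root_.mul_inv_rev, ← mul_assoc, mul_assoc (conjQ h) (fieldQ σ) (conjQ g),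
      fieldQ_mul_conjQ, ← mul_assoc, mul_inv_cancel_right]

end Cfsg.Agent.AutPSp
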