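import Cfsg.Agent.Lib.AutPSp.GraphMap
import Cfsg.Agent.Lib.AutPSp.Mult

/-!
The graph automorphism of `PSp₄` in characteristic two and the split of `Aut` it gives.
-/

set_option autoImplicit false
set_option linter.unusedSectionVars false

namespace Cfsg.Agent.AutPSp

open Matrix Cfsg
open Cfsg.Agent.Forms (sympB)
open Cfsg.Agent.Fusion.SympBlocks

universe u

variable {m : ℕ} {F : Type u} [Field F] [Fintype F]

section OnePoint

local notation "Vv" => (Fin m ⊕ Fin m → F)

theorem mapsRoots_of_point (hm : 2 ≤ m) {β : MulAut (PSp m F)} {v w : Vv} (hv : v ≠ 0) (hw : w ≠ 0)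
    (h : (root v).map β.toMonoidHom = root w) : MapsRoots β ∧ MapsRoots β⁻¹ := by
  have key : ∀ (γ : MulAut (PSp m F)) (a b : Vv), a ≠ 0 → b ≠ 0 → (root a).map γ.toMonoidHom = root b →
      MapsRoots γ := by
    intro γ a b ha hb e x hx
    obtain ⟨g, rfl⟩ := exists_sp_map ha hx
    obtain ⟨k, hk⟩ := QuotientGroup.mk_surjective (γ (QuotientGroup.mk g))
    refine ⟨_, fun e' => hb (sp_inj k e'), ?_⟩
    rw [← root_conj k, ← e, ← root_conj g, Subgroup.map_map, Subgroup.map_map, hk]
    congr 1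
    refine MonoidHom.ext fun y => ?_
    simp
  refine ⟨key β v w hv hw h, key β⁻¹ w v hw hv ?_⟩
  rw [← h, ← map_mulAut_mul, inv_mul_cancel, map_mulAut_one]

end OnePoint

variable [CharP F 2]

local notation "Sp2" => Matrix.symplecticGroup (Fin 2) F

theorem gHom_injective : Function.Injective (gHom : Sp2 → Sp2) := by
  intro x y h
  refine Subtype.ext (Matrix.ext fun i j => frobenius_inj F 2 ?_)
  have e := congrFun (congrFun (congrArg (fun z : Sp2 => ((gHom z : Sp2) : Matrix _ _ F)) h) i) j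
  rw [gHom_gHom, gHom_gHom] at e
  exact e

/-- The quotient map as an isomorphism. -/
noncomputable def mkEquiv (hm : 2 ≤ m) : Matrix.symplecticGroup (Fin m) F ≃* PSp m F :=
  MulEquiv.ofBijective (QuotientGroup.mk' (Subgroup.center (Matrix.symplecticGroup (Fin m) F)))
    ⟨mk_injective_char_two hm, QuotientGroup.mk'_surjective _⟩

theorem mkEquiv_apply (hm : 2 ≤ m) (s : Matrix.symplecticGroup (Fin m) F) : mkEquiv hm s = QuotientGroup.mk s := rfl

/-- The graph automorphism. -/
noncomputable def graphQ : MulAut (PSp 2 F) :=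
  ((mkEquiv le_rfl).symm.trans (MulEquiv.ofBijective gHom
    (Finite.injective_iff_bijective.1 gHom_injective))).trans (mkEquiv le_rfl)

theorem graphQ_mk (s : Sp2) :
    graphQ (QuotientGroup.mk s) = QuotientGroup.mk (gHom s) := by
  rw [← mkEquiv_apply le_rfl, ← mkEquiv_apply le_rfl]
  simp [graphQ]

theorem graphQ_tv (t : F) :
    graphQ (QuotientGroup.mk (tv (e0 le_rfl) t)) = QuotientGroup.mk (cen (m := 2) le_rfl 0 t) := by
  rw [graphQ_mk, gHom_tv]

theorem mem_spUni_of_commute {t s : F} (ht : t ≠ 0) (hs : s ≠ 0) {g : Sp2}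
    (h : g * cen (m := 2) le_rfl t s = cen le_rfl t s * g) : g ∈ spUni := by
  obtain ⟨hSC, -, hAS⟩ := commute_sh h
  set S := sS (m := 2) le_rfl t s
  have two : (2 : F) = 0 := CharTwo.two_eq_zero
  have h00 : S 0 0 = t := by simp [S, sS, dE, pr, ix0, ix1]
  have h01 : S 0 1 = s := by simp [S, sS, dE, pr, ix0, ix1]
  have h10 : S 1 0 = s := by simp [S, sS, dE, pr, ix0, ix1]
  have h11 : S 1 1 = 0 := by simp [S, sS, dE, pr, ix0, ix1]
  have hC : bC g = 0 := by
    have hdet : IsUnit S.det := by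
      rw [Matrix.det_fin_two, h00, h01, h10, h11, isUnit_iff_ne_zero]
      simpa using mul_ne_zero hs hs
    have e := congrArg (S⁻¹ * ·) hSC
    simpa [← Matrix.mul_assoc, Matrix.nonsing_inv_mul S hdet] using e
  have h3 := (rel g).2.2
  rw [hC, Matrix.transpose_zero, Matrix.zero_mul, sub_zero] at h3
  have hA : bA g * S * (bA g)ᵀ = S := by
    rw [hAS, Matrix.mul_assoc, mul_eq_one_comm.1 h3, Matrix.mul_one]
  set a := bA g 0 0
  set b := bA g 0 1
  set c := bA g 1 0
  set d := bA g 1 1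
  have e11 := congrFun (congrFun hA 1) 1
  have e00 := congrFun (congrFun hA 0) 0
  have e01 := congrFun (congrFun hA 0) 1
  simp only [Matrix.mul_apply, Fin.sum_univ_two, Matrix.transpose_apply, h00, h01, h10, h11] at e11 e00 e01
  have hc : c = 0 := by
    have : c * c * t = 0 := by linear_combination e11 - (c * d * s) * two
    simpa [ht] using this
  have ha : a = 1 := by
    have : (a - 1) * (a - 1) * t = 0 := by linear_combination e00 + (-a * b * s - a * t + t) * two
    simpa [ht, sub_eq_zero] using this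
  have hd : d = 1 := by
    have e : (d - 1) * s = 0 := by
      rw [show bA g 0 0 = a from rfl, show bA g 1 0 = c from rfl, hc, ha] at e01
      linear_combination e01
    simpa [hs, sub_eq_zero] using e
  refine ⟨⟨hC, fun i j hij => ?_⟩, fun i => ?_⟩
  · fin_cases i <;> fin_cases j <;> first | exact hc | exact absurd hij (by decide)
  · fin_cases i
    · exact ha
    · exact hd

theorem no_mixed_image (φ : MulAut (PSp 2 F)) (c : F) {t s : F} (ht : t ≠ 0) (hs : s ≠ 0) :
    φ (QuotientGroup.mk (tv (e0 le_rfl) c)) ≠ QuotientGroup.mk (cen (m := 2) le_rfl t s) := by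
  classical
  intro e
  set T : Matrix.SpecialLinearGroup (Fin 2) F := ⟨!![0, 1; 1, 1], by simp [Matrix.det_fin_two, CharTwo.neg_eq]⟩
  set D : Sp2 := psi (ix1 le_rfl) T
  have hT3 : T ^ 3 = 1 := Subtype.ext (by
    rw [pow_succ, pow_succ, pow_one, Matrix.SpecialLinearGroup.coe_mul, Matrix.SpecialLinearGroup.coe_mul,
      Matrix.SpecialLinearGroup.coe_one]
    ext i j
    fin_cases i <;> fin_cases j <;> simp [T, Matrix.mul_apply, Fin.sum_univ_two, CharTwo.add_self_eq_zero])
  have hcomm : D * tv (e0 le_rfl) c = tv (e0 le_rfl) c * D := by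
    rw [← mul_inv_eq_iff_eq_mul, conj_tv]
    congr 1
    funext k
    simp only [e0, Matrix.mulVec_single_one, Matrix.col_apply]
    rcases k with k | k
    · rw [coe_apply_ll, bA_psi]
      fin_cases k <;> simp [dE, ix0, ix1]
    · rw [coe_apply_rl, bC_psi]
      fin_cases k <;> simp [dE, ix0, ix1]
  obtain ⟨g, hg⟩ := QuotientGroup.mk_surjective (φ (QuotientGroup.mk D))
  have hgc : g * cen le_rfl t s = cen le_rfl t s * g := mk_injective_char_two le_rfl (by
    rw [QuotientGroup.mk_mul, QuotientGroup.mk_mul, hg, ← e, ← map_mul, ← map_mul, ← QuotientGroup.mk_mul,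
      ← QuotientGroup.mk_mul, hcomm])
  haveI : Fact (Nat.Prime 2) := ⟨Nat.prime_two⟩
  obtain ⟨k, hk⟩ := spUni_isPGroup (m := 2) (F := F) 2 ⟨g, mem_spUni_of_commute ht hs hgc⟩
  have hk' : g ^ 2 ^ k = 1 := by simpa using congrArg Subtype.val hk
  have hD : D ^ 2 ^ k = 1 := mk_injective_char_two le_rfl (φ.injective (by
    rw [QuotientGroup.mk_pow, map_pow, ← hg, ← QuotientGroup.mk_pow, hk']
    exact (map_one φ).symm))
  have h1 : orderOf D ∣ Nat.gcd (2 ^ k) 3 :=
    Nat.dvd_gcd (orderOf_dvd_of_pow_eq_one hD) (orderOf_dvd_of_pow_eq_one (by rw [← map_pow, hT3, map_one]))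
  rw [Nat.Coprime.gcd_eq_one (Nat.Coprime.pow_left k (by norm_num)), Nat.dvd_one, orderOf_eq_one_iff] at h1
  have h2 := congrArg (fun X => bB X (ix1 le_rfl) (ix1 le_rfl)) h1
  simp only [D, bB_psi, bB_one] at h2
  simp [T, dE] at h2

/-- The graph automorphism squares to the Frobenius. -/
theorem graphQ_sq : (graphQ : MulAut (PSp 2 F)) * graphQ = fieldQ (frobeniusEquiv F 2) := by
  refine MulEquiv.ext fun x => ?_
  induction x using QuotientGroup.induction_on with
  | _ s =>
    rw [MulAut.mul_apply, graphQ_mk, graphQ_mk, fieldQ_mk]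
    exact congrArg QuotientGroup.mk (Subtype.ext (gHom_gHom s))

theorem mapsRoots_or_graph (β : MulAut (PSp 2 F)) :
    (MapsRoots β ∧ MapsRoots β⁻¹) ∨
      (MapsRoots (graphQ⁻¹ * β) ∧ MapsRoots (graphQ⁻¹ * β)⁻¹) := by
  haveI : Fact (Nat.Prime 2) := ⟨Nat.prime_two⟩
  haveI : Finite (PSp 2 F) := inferInstance
  set hm : 2 ≤ 2 := le_rfl
  obtain ⟨h, φ, hφ, hφ', e⟩ := exists_fix hm 2 β (e0_ne (F := F) hm)
  have hcs : ∀ c : F, ∃ t s : F, (t = 0 ∨ s = 0) ∧
      φ (QuotientGroup.mk (tv (e0 hm) c)) = QuotientGroup.mk (cen hm t s) := by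
    intro c
    obtain ⟨t, s, -, e⟩ := exists_cen_image hm hφ hφ' c
    refine ⟨t, s, ?_, e⟩
    by_contra! hne
    exact no_mixed_image φ c hne.1 hne.2 e
  choose T S hTS hφc using hcs
  by_cases hall : ∀ c, S c = 0
  · left
    rw [map_root_e0_eq hm (φ := φ) (fun c => by rw [hφc, hall, cen_eq_tv]; exact tv_mem_root _ _), root_conj] at e
    exact mapsRoots_of_point hm (e0_ne hm) (fun e0' => e0_ne hm (sp_inj h e0')) e
  · right
    push Not at hall
    obtain ⟨c₁, hc₁⟩ := hall
    have hT₁ : T c₁ = 0 := (hTS c₁).resolve_right hc₁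
    have hT : ∀ c, T c = 0 := by
      intro c
      by_contra hT
      have hS : S c = 0 := (hTS c).resolve_left hT
      have e2 : φ (QuotientGroup.mk (tv (e0 hm) (c + c₁))) = QuotientGroup.mk (cen hm (T c) (S c₁)) := by
        rw [tv_add, QuotientGroup.mk_mul, map_mul, hφc, hφc, ← QuotientGroup.mk_mul, hS, hT₁, cen, cen, cen,
          sh_mul]
        refine congrArg QuotientGroup.mk (sh_congr _ _ ?_)
        simp [sS]
      exact no_mixed_image φ _ hT hc₁ e2
    have hsub : (root (e0 hm)).map φ.toMonoidHom = (root (e0 hm)).map graphQ.toMonoidHom := by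
      refine Subgroup.eq_of_le_of_card_ge ?_ (le_of_eq ?_)
      · rintro _ ⟨z, hz, rfl⟩
        obtain ⟨c, rfl⟩ := mem_root.1 hz
        refine ⟨QuotientGroup.mk (tv (e0 hm) (S c)), tv_mem_root _ _, ?_⟩
        show graphQ _ = φ _
        rw [graphQ_tv, hφc, hT]
      · rw [Subgroup.card_map_of_injective (f := φ.toMonoidHom) φ.injective,
          Subgroup.card_map_of_injective (f := graphQ.toMonoidHom) graphQ.injective]
    obtain ⟨k, hk⟩ := QuotientGroup.mk_surjective (graphQ⁻¹ (QuotientGroup.mk h))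
    refine mapsRoots_of_point hm (e0_ne hm) (fun e0' => e0_ne hm (sp_inj k e0')) ?_
    rw [map_mulAut_mul, e, hsub, ← root_conj k, hk, Subgroup.map_map, Subgroup.map_map]
    congr 1
    refine MonoidHom.ext fun y => ?_
    simp

theorem not_mapsRoots_graphQ : ¬ MapsRoots (graphQ : MulAut (PSp 2 F)) := by
  intro h
  set hm : 2 ≤ 2 := le_rfl
  obtain ⟨w, hw, e⟩ := h (e0 hm) (e0_ne hm)
  have hmem := e.le ⟨QuotientGroup.mk (tv (e0 hm) 1), tv_mem_root _ _, graphQ_tv 1⟩
  obtain ⟨c, hc⟩ := mem_root.1 hmem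
  have e1' := mk_injective_char_two hm hc
  obtain ⟨x, hx⟩ := e0_mem_range (F := F) hm 0 one_ne_zero
  obtain ⟨y, hy⟩ := e1_mem_range (F := F) hm 0 one_ne_zero
  rw [e1', tv_apply, add_sub_cancel_left] at hx hy
  have h0 := congrFun hx (Sum.inl (ix0 hm))
  have h1 := congrFun hy (Sum.inl (ix1 hm))
  have h2 := congrFun hx (Sum.inl (ix1 hm))
  simp [e0, e1, (ix0_ne_ix1 hm).symm] at h0 h1 h2
  rcases h2 with (h2 | h2) | h2
  · rw [h2, zero_mul, zero_mul] at h0; exact zero_ne_one h0
  · rw [h2, mul_zero, zero_mul] at h0; exact zero_ne_one h0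
  · rw [h2, mul_zero] at h1; exact zero_ne_one h1

end Cfsg.Agent.AutPSp
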