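import Cfsg.Agent.Lib.AutPSp.Sylow

/-!
Automorphisms of `PSp` permute the transvection groups, outside `PSp₄` in characteristic two.
-/

set_option autoImplicit false
set_option linter.unusedSectionVars false

namespace Cfsg.Agent.AutPSp

open Matrix Cfsg
open Cfsg.Agent.Fusion.SympBlocks
open Cfsg.Agent.Forms (sympB)

universe u

variable {m : ℕ} {F : Type u} [Field F] [Fintype F]

local notation "Vv" => (Fin m ⊕ Fin m → F)
local notation "M2" => Matrix (Fin m ⊕ Fin m) (Fin m ⊕ Fin m) F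
local notation "Mm" => Matrix (Fin m) (Fin m) F
local notation "Sp" => Matrix.symplecticGroup (Fin m) F
local notation "B" => Forms.sympB m F

/-- The second basis vector. -/
def e1 (hm : 2 ≤ m) : Vv := Pi.single (Sum.inl (ix1 hm)) 1

theorem cen_sub (hm : 2 ≤ m) (t s : F) (x : Vv) :
    (cen hm t s : M2) *ᵥ x - x =
      (t * x (Sum.inr (ix0 hm)) + s * x (Sum.inr (ix1 hm))) • e0 hm + (s * x (Sum.inr (ix0 hm))) • e1 hm := by
  rw [cen, sh, Fusion.SympBlocks.coe_eq, bA_ofBlocks, bB_ofBlocks, bC_ofBlocks, bD_ofBlocks,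
    Matrix.fromBlocks_mulVec]
  funext k
  rcases k with k | k
  · simp only [Pi.sub_apply, Sum.elim_inl, Matrix.one_mulVec, Pi.add_apply, Function.comp_apply, add_sub_cancel_left,
      sS, dE, pr, Matrix.add_mulVec, Matrix.smul_mulVec, Matrix.single_mulVec, Pi.smul_apply, smul_eq_mul]
    have h01 := ix0_ne_ix1 hm
    rcases eq_or_ne k (ix0 hm) with rfl | h0
    · simp [e0, e1, h01]
    · rcases eq_or_ne k (ix1 hm) with rfl | h1
      · simp [e0, e1, h01.symm]
      · simp [e0, e1, h0, h1]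
  · simp [e0, e1]

theorem e0_mem_range (hm : 2 ≤ m) (t : F) {s : F} (hs : s ≠ 0) :
    ∃ x : Vv, (cen hm t s : M2) *ᵥ x - x = e0 hm := by
  refine ⟨Pi.single (Sum.inr (ix1 hm)) s⁻¹, ?_⟩
  rw [cen_sub]
  simp [ix0_ne_ix1 hm, hs]

theorem e1_mem_range (hm : 2 ≤ m) (t : F) {s : F} (hs : s ≠ 0) :
    ∃ x : Vv, (cen hm t s : M2) *ᵥ x - x = e1 hm := by
  refine ⟨Pi.single (Sum.inr (ix0 hm)) s⁻¹ + Pi.single (Sum.inr (ix1 hm)) (-(t * (s⁻¹ * s⁻¹))), ?_⟩
  rw [cen_sub]
  have h01 := ix0_ne_ix1 hm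
  simp [h01, h01.symm, hs]
  left
  field_simp
  ring

theorem range_supp (hm : 2 ≤ m) (t s : F) (x : Vv) {w : Vv} (hw : (cen hm t s : M2) *ᵥ x - x = w) :
    w = w (Sum.inl (ix0 hm)) • e0 hm + w (Sum.inl (ix1 hm)) • e1 hm := by
  have h01 := ix0_ne_ix1 hm
  rw [← hw, cen_sub]
  simp [e0, e1, h01, h01.symm]

theorem card_conj_tv_le (hm : 2 ≤ m) (c : F) :
    Nat.card {y : PSp m F // IsConj (QuotientGroup.mk (tv (e0 hm) c)) y} ≤ Nat.card {v : Vv // v ≠ 0} := by
  haveI : Finite (PSp m F) := inferInstance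
  refine Nat.card_le_card_of_surjective
    (fun v => ⟨QuotientGroup.mk (tv v.1 c), ?_⟩) ?_
  · obtain ⟨g, hg⟩ := exists_sp_map (e0_ne hm) v.2
    refine isConj_iff.2 ⟨QuotientGroup.mk g, ?_⟩
    rw [← hg, ← conj_tv, QuotientGroup.mk_mul, QuotientGroup.mk_mul, QuotientGroup.mk_inv]
  · rintro ⟨y, hy⟩
    obtain ⟨d, hd⟩ := isConj_iff.1 hy
    obtain ⟨g, rfl⟩ := QuotientGroup.mk_surjective d
    refine ⟨⟨(g : M2) *ᵥ e0 hm, fun e => e0_ne hm (sp_inj g e)⟩, Subtype.ext ?_⟩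
    show QuotientGroup.mk (tv _ c) = y
    rw [← conj_tv, QuotientGroup.mk_mul, QuotientGroup.mk_mul, QuotientGroup.mk_inv, hd]

theorem card_perp_off_ge (a : Vv) (ha : a ≠ 0) :
    Nat.card F ^ (2 * m - 1) ≤ Nat.card {b : Vv // B a b = 0 ∧ ∀ k : F, b ≠ k • a} + Nat.card F := by
  classical
  have hK : Nat.card {b : Vv // B a b = 0} = Nat.card F ^ (2 * m - 1) := by
    rw [Forms.card_functional_fibre (fun h => ha ((Forms.sympB_nondegenerate m).1 a fun y => by rw [h]; rfl)),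
      Module.finrank_fintype_fun_eq_card, Fintype.card_sum, Fintype.card_fin, ← two_mul]
  rw [← hK, ← Nat.card_sum]
  refine Nat.card_le_card_of_injective
    (fun b => if h : ∃ k : F, b.1 = k • a then Sum.inr h.choose else Sum.inl ⟨b.1, b.2, not_exists.1 h⟩) ?_
  intro b b' h
  simp only at h
  split_ifs at h with h1 h2 h2
  · refine Subtype.ext ?_
    rw [h1.choose_spec, h2.choose_spec, Sum.inr_injective h]
  · exact Subtype.ext (congrArg Subtype.val (Sum.inl_injective h) : _)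

theorem card_conj_cen_gt (hm : 2 ≤ m) (hm3 : 3 ≤ m) [CharP F 2] (t : F) {s : F} (hs : s ≠ 0) :
    Nat.card {v : Vv // v ≠ 0} < Nat.card {y : PSp m F // IsConj (QuotientGroup.mk (cen hm t s)) y} := by
  classical
  haveI : Finite (PSp m F) := inferInstance
  set u := cen hm t s
  set x : PSp m F := QuotientGroup.mk u
  let P := Σ a : {v : Vv // v ≠ 0}, {b : Vv // B a.1 b = 0 ∧ ∀ k : F, b ≠ k • a.1}
  have hpair : ∀ ab : P, ∃ g : Sp, (g : M2) *ᵥ e0 hm = ab.1.1 ∧ (g : M2) *ᵥ e1 hm = ab.2.1 := by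
    rintro ⟨⟨a, ha⟩, b, hb, hk⟩
    obtain ⟨g, hg⟩ := Forms.exists_symplectic_map (m := m) (v := ![e0 hm, e1 hm]) (w := ![a, b])
      ((LinearIndependent.pair_iff' (e0_ne hm)).2 fun k e => by
        have := congrFun e (Sum.inl (ix1 hm))
        simp [e0, e1, (ix0_ne_ix1 hm).symm] at this)
      ((LinearIndependent.pair_iff' ha).2 fun k e => hk k e.symm)
      (fun i j => by
        have h1 : B (e0 hm) (e1 hm) = 0 := by
          rw [Forms.sympB_apply, Forms.sympForm_eq_sum]; simp [e0, e1]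
        simp only [← Forms.sympB_apply]
        fin_cases i <;> fin_cases j <;>
          simp [B_self, h1, hb, (B_eq_zero_comm _ _).1 h1, (B_eq_zero_comm _ _).1 hb])
    exact ⟨g, hg 0, hg 1⟩
  choose g hg0 hg1 using hpair
  have hC : ∀ y : {y : PSp m F // IsConj x y}, ∃ h : Sp, QuotientGroup.mk (h * u * h⁻¹) = y.1 := fun y => by
    obtain ⟨d, hd⟩ := isConj_iff.1 y.2
    obtain ⟨h, rfl⟩ := QuotientGroup.mk_surjective d
    exact ⟨h, by rw [← hd]; rfl⟩
  choose H hH using hC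
  let cls : P → {y : PSp m F // IsConj x y} := fun ab =>
    ⟨QuotientGroup.mk (g ab * u * (g ab)⁻¹), isConj_iff.2 ⟨QuotientGroup.mk (g ab), rfl⟩⟩
  let co : P → Vv → F × F := fun ab v =>
    ((((H (cls ab))⁻¹ : Sp) : M2) *ᵥ v) (Sum.inl (ix0 hm)) |> fun z =>
      (z, ((((H (cls ab))⁻¹ : Sp) : M2) *ᵥ v) (Sum.inl (ix1 hm)))
  have hsupp : ∀ (ab : P) (e : Vv), (∃ y, (u : M2) *ᵥ y - y = e) →
      (((H (cls ab))⁻¹ : Sp) : M2) *ᵥ ((g ab : M2) *ᵥ e) =
        ((((H (cls ab))⁻¹ : Sp) : M2) *ᵥ ((g ab : M2) *ᵥ e)) (Sum.inl (ix0 hm)) • e0 hm +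
        ((((H (cls ab))⁻¹ : Sp) : M2) *ᵥ ((g ab : M2) *ᵥ e)) (Sum.inl (ix1 hm)) • e1 hm := by
    rintro ab e ⟨y, rfl⟩
    set k := (H (cls ab))⁻¹ * g ab
    have hk : k * u = u * k := by
      have h := mk_injective_char_two hm (hH (cls ab))
      rw [mul_inv_eq_iff_eq_mul] at h
      simp only [k]
      rw [mul_assoc, inv_mul_eq_iff_eq_mul, ← mul_assoc, ← mul_assoc, h]
      group
    refine range_supp hm t s ((k : M2) *ᵥ y) ?_
    rw [Matrix.mulVec_mulVec, ← Submonoid.coe_mul, ← hk, Submonoid.coe_mul, ← Matrix.mulVec_mulVec]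
    simp only [k, Submonoid.coe_mul, ← Matrix.mulVec_mulVec, Matrix.mulVec_sub]
  have hinj : Function.Injective fun ab : P => (cls ab, co ab ab.1.1, co ab ab.2.1) := by
    intro ab ab' e
    simp only [Prod.mk.injEq] at e
    obtain ⟨hc, ha, hb⟩ := e
    have key : ∀ (e : Vv), (∃ y, (u : M2) *ᵥ y - y = e) →
        co ab ((g ab : M2) *ᵥ e) = co ab' ((g ab' : M2) *ᵥ e) → (g ab : M2) *ᵥ e = (g ab' : M2) *ᵥ e := by
      intro e he hco
      simp only [co, Prod.mk.injEq] at hco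
      have h1 := hsupp ab e he
      rw [hco.1, hco.2, ← hsupp ab' e he, hc] at h1
      have := congrArg (fun z => (H (cls ab') : M2) *ᵥ z) h1
      simp only [Matrix.mulVec_mulVec, ← mul_assoc, ← Submonoid.coe_mul, mul_inv_cancel, one_mul] at this
      exact this
    have h0 : ab.1.1 = ab'.1.1 := by
      rw [← hg0 ab, ← hg0 ab']
      exact key _ (e0_mem_range hm t hs) (by rw [hg0, hg0]; exact ha)
    have h1 : ab.2.1 = ab'.2.1 := by
      rw [← hg1 ab, ← hg1 ab']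
      exact key _ (e1_mem_range hm t hs) (by rw [hg1, hg1]; exact hb)
    obtain ⟨⟨a, ha⟩, b, hb⟩ := ab
    obtain ⟨⟨a', ha'⟩, b', hb'⟩ := ab'
    simp only at h0 h1
    subst h0 h1
    rfl
  have hle := Nat.card_le_card_of_injective _ hinj
  rw [Nat.card_prod, Nat.card_prod, Nat.card_prod] at hle
  have hq : 2 ≤ Nat.card F := Finite.one_lt_card
  set q := Nat.card F
  set n := Nat.card {v : Vv // v ≠ 0}
  have hn : 0 < n := Nat.card_pos_iff.2 ⟨⟨⟨e0 hm, e0_ne hm⟩⟩, inferInstance⟩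
  have hlow : n * (q ^ (2 * m - 1) - q) ≤ Nat.card P := by
    rw [Nat.card_sigma, show n = Fintype.card {v : Vv // v ≠ 0} from Nat.card_eq_fintype_card,
      ← Finset.card_univ, ← smul_eq_mul]
    exact Finset.card_nsmul_le_sum _ _ _ fun a _ => by
      have h := card_perp_off_ge a.1 a.2
      change q ^ (2 * m - 1) ≤ _ + q at h
      omega
  have hbig : q * q * (q * q) < q ^ (2 * m - 1) - q := by
    have h5 : q ^ 5 ≤ q ^ (2 * m - 1) := Nat.pow_le_pow_right (by omega) (by omega)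
    have e5 : q ^ 5 = q * (q * q * (q * q)) := by ring
    have : q * 1 < q * q * (q * q) := by
      calc q * 1 < q * (q * q * q) := Nat.mul_lt_mul_of_pos_left (by nlinarith) (by omega)
        _ = _ := by ring
    have : 2 * (q * q * (q * q)) ≤ q * (q * q * (q * q)) := Nat.mul_le_mul_right _ hq
    omega
  by_contra hnot
  push Not at hnot
  have := Nat.mul_lt_mul_of_pos_left hbig hn
  have := hlow.trans (hle.trans (Nat.mul_le_mul_right _ hnot))
  omega

theorem fix_large (hm : 2 ≤ m) (p : ℕ) [Fact p.Prime] [CharP F p] (h4 : m = 2 → p ≠ 2) (φ : MulAut (PSp m F))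
    (c t s : F) (hs : s ≠ 0) (h2 : 2 * s = 0) :
    φ (QuotientGroup.mk (tv (e0 hm) c)) ≠ QuotientGroup.mk (cen hm t s) := by
  have h20 : (2 : F) = 0 := (mul_eq_zero.1 h2).resolve_right hs
  obtain rfl : p = 2 :=
    (Nat.prime_dvd_prime_iff_eq Fact.out Nat.prime_two).1 ((CharP.cast_eq_zero_iff F p 2).1 (by exact_mod_cast h20))
  intro e
  refine (card_conj_cen_gt hm (by omega) t hs).not_ge (le_trans (le_of_eq ?_) (card_conj_tv_le hm c))
  refine Nat.card_congr (Equiv.subtypeEquiv φ.symm.toEquiv fun y => ?_)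
  rw [← e]
  constructor
  · intro h
    simpa using φ.symm.toMonoidHom.map_isConj h
  · intro h
    simpa using φ.toMonoidHom.map_isConj h

/-- Automorphisms permute the transvection groups. -/
theorem exists_map_root (hm : 2 ≤ m) (p : ℕ) [Fact p.Prime] [CharP F p] (h4 : m = 2 → p ≠ 2)
    (β : MulAut (PSp m F)) {v : Vv} (hv : v ≠ 0) : ∃ w : Vv, w ≠ 0 ∧ (root v).map β.toMonoidHom = root w :=
  exists_map_root_of hm p (fix_large hm p h4) β hv

end Cfsg.Agent.AutPSp
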