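import Cfsg.Agent.Lib.Suzuki4.Basic
import Cfsg.Agent.Lib.AutPSp.Roots

/-!
The exceptional endomorphism of `Sp₄` in characteristic two, in the coordinates of `Matrix.symplecticGroup`.
-/

set_option autoImplicit false
set_option linter.unusedSectionVars false

namespace Cfsg.Agent.AutPSp

open Matrix Cfsg
open Cfsg.Agent.Forms (sympB)
open Cfsg.Agent.Fusion.SympBlocks

universe u

variable {F : Type u} [Field F] [Fintype F] [CharP F 2]

local notation "I2" => (Fin 2 ⊕ Fin 2)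
local notation "Sp2" => Matrix.symplecticGroup (Fin 2) F
local notation "M4" => Matrix (Fin 4) (Fin 4) F

/-- The coordinates in which the form is antidiagonal. -/
def pi4 : I2 ≃ Fin 4 where
  toFun := Sum.elim ![0, 1] ![3, 2]
  invFun := ![Sum.inl 0, Sum.inl 1, Sum.inr 1, Sum.inr 0]
  left_inv := by rintro (i | i) <;> fin_cases i <;> rfl
  right_inv := by intro i; fin_cases i <;> rfl

/-- Antidiagonal coordinates, on units. -/
def to4 : GL I2 F ≃* GL (Fin 4) F := Units.mapEquiv (Matrix.reindexAlgEquiv F F pi4).toMulEquiv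

omit [Fintype F] in
theorem altForm4_eq_symp (u v : Fin 4 → F) : Lie.altForm4 u v = sympForm 2 F (u ∘ pi4) (v ∘ pi4) := by
  simp [Lie.altForm4, Forms.sympForm_eq_sum, Fin.sum_univ_two, pi4, CharTwo.sub_eq_add]
  ring

theorem to4_mulVec (g : GL I2 F) (u : Fin 4 → F) :
    (((to4 g : GL (Fin 4) F) : M4) *ᵥ u) ∘ pi4 = (g : Matrix I2 I2 F) *ᵥ (u ∘ pi4) := by
  funext i
  show (((g : Matrix I2 I2 F).submatrix pi4.symm pi4.symm) *ᵥ u) (pi4 i) = _
  rw [Matrix.submatrix_mulVec_equiv]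
  simp

theorem mem_Sp4_iff (g : GL I2 F) : to4 g ∈ Lie.Sp4 F ↔ (g : Matrix I2 I2 F) ∈ Matrix.symplecticGroup (Fin 2) F := by
  rw [Forms.mem_symplecticGroup_iff_form]
  constructor
  · intro h u v
    obtain ⟨u, rfl⟩ : ∃ u', u' ∘ pi4 = u := ⟨u ∘ pi4.symm, by funext i; simp⟩
    obtain ⟨v, rfl⟩ : ∃ v', v' ∘ pi4 = v := ⟨v ∘ pi4.symm, by funext i; simp⟩
    rw [← to4_mulVec, ← to4_mulVec, ← altForm4_eq_symp, ← altForm4_eq_symp]
    exact h u v
  · intro h u v
    show Lie.altForm4 (_ *ᵥ u) (_ *ᵥ v) = Lie.altForm4 u v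
    rw [altForm4_eq_symp, altForm4_eq_symp, Units.coeHom_apply, to4_mulVec, to4_mulVec]
    exact h _ _

theorem star4_J {g : GL (Fin 4) F} (hg : g ∈ Lie.Sp4 F) :
    (Lie.star4 (g : M4))ᵀ * Suzuki4.J * Lie.star4 (g : M4) = Suzuki4.J := by
  have two : (2 : F) = 0 := CharTwo.two_eq_zero
  have hG := Suzuki4.transpose_mul_J hg
  have hd := Suzuki4.det_eq_one hg
  rw [Suzuki4.det_four] at hd
  set G : M4 := (g : M4)
  ext p r
  have e1 := congrFun (congrFun hG (Lie.pairOf p).1) (Lie.pairOf p).2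
  have e2 := congrFun (congrFun hG (Lie.pairOf r).1) (Lie.pairOf r).2
  fin_cases p <;> fin_cases r <;>
    simp [Suzuki4.J, Lie.star4, Lie.pairOf, Matrix.mul_apply, Fin.sum_univ_four] at e1 e2 ⊢
  all_goals grind

/-- A symplectic matrix in `Sp4`. -/
noncomputable def toSp4 (s : Sp2) : Lie.Sp4 F :=
  ⟨to4 (Forms.spEquivPreserving 2 F s).1, (mem_Sp4_iff _).2 s.2⟩

theorem toSp4_coe (s : Sp2) : (((toSp4 s : Lie.Sp4 F) : GL (Fin 4) F) : M4) = (s : Matrix I2 I2 F).submatrix pi4.symm pi4.symm := rfl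

/-- The image matrix. -/
def gMat (s : Sp2) : Matrix I2 I2 F := (Lie.star4 ((s : Matrix I2 I2 F).submatrix pi4.symm pi4.symm)).submatrix pi4 pi4

theorem gMat_mem (s : Sp2) : gMat s ∈ Matrix.symplecticGroup (Fin 2) F := by
  rw [SymplecticGroup.mem_iff']
  have h := star4_J (toSp4 s).2
  rw [toSp4_coe] at h
  have hJ : Matrix.J (Fin 2) F = (Suzuki4.J : M4).submatrix pi4 pi4 := by
    ext (i | i) (j | j) <;> fin_cases i <;> fin_cases j <;> simp [Matrix.J, Suzuki4.J, pi4, CharTwo.neg_eq]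
  rw [gMat, hJ, Matrix.transpose_submatrix, Matrix.submatrix_mul_equiv, Matrix.submatrix_mul_equiv, h]

theorem gMat_one : gMat (1 : Sp2) = 1 := by
  rw [gMat, Submonoid.coe_one, Matrix.submatrix_one _ pi4.symm.injective,
    show Lie.star4 (1 : M4) = 1 by
      ext p r; fin_cases p <;> fin_cases r <;> simp [Lie.star4, Lie.pairOf, Matrix.one_apply],
    Matrix.submatrix_one _ pi4.injective]

theorem gMat_mul (s t : Sp2) : gMat (s * t) = gMat s * gMat t := by
  have h := Suzuki4.star4_mul (toSp4 s).2 (toSp4 t).2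
  rw [toSp4_coe, toSp4_coe] at h
  rw [gMat, gMat, gMat, Matrix.submatrix_mul_equiv, ← h, Submonoid.coe_mul, Matrix.submatrix_mul_equiv]

/-- The exceptional endomorphism. -/
def gHom : Sp2 →* Sp2 where
  toFun s := ⟨gMat s, gMat_mem s⟩
  map_one' := Subtype.ext gMat_one
  map_mul' s t := Subtype.ext (gMat_mul s t)

theorem gHom_tv (hm : 2 ≤ 2) (t : F) : gHom (tv (e0 hm) t : Sp2) = cen hm 0 t := by
  rw [← cen_eq_tv]
  refine Subtype.ext ?_
  show gMat (cen hm t 0 : Sp2) = (cen hm 0 t : Sp2).1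
  rw [gMat, cen, cen, sh, sh, Fusion.SympBlocks.coe_eq, Fusion.SympBlocks.coe_eq]
  simp only [bA_ofBlocks, bB_ofBlocks, bC_ofBlocks, bD_ofBlocks]
  have h0 : ix0 (m := 2) hm = 0 := rfl
  have h1 : ix1 (m := 2) hm = 1 := rfl
  ext (i | i) (j | j) <;> fin_cases i <;> fin_cases j <;>
    simp [sS, dE, pr, h0, h1, Lie.star4, Lie.pairOf, pi4, CharTwo.neg_eq]

theorem star4_star4 {g : GL (Fin 4) F} (hg : g ∈ Lie.Sp4 F) :
    Lie.star4 (Lie.star4 (g : Matrix (Fin 4) (Fin 4) F)) = (g : Matrix (Fin 4) (Fin 4) F).map (fun x => x ^ 2) := by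
  have two : (2 : F) = 0 := CharTwo.two_eq_zero
  have hadj : (g : Matrix (Fin 4) (Fin 4) F).adjugate = Suzuki4.J * ((g : Matrix (Fin 4) (Fin 4) F))ᵀ * Suzuki4.J := by
    rw [← Suzuki4.inv_eq hg, coe_units_inv, Matrix.inv_def, Suzuki4.det_eq_one hg, Ring.inverse_one, one_smul]
  set G : Matrix (Fin 4) (Fin 4) F := (g : Matrix (Fin 4) (Fin 4) F)
  clear_value G
  ext p r
  have e5 := congrFun (congrFun hadj r.rev) p.rev
  clear hadj
  fin_cases p <;> fin_cases r <;>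
    simp [Suzuki4.J, Lie.star4, Lie.pairOf, Matrix.mul_apply, Fin.sum_univ_four,
      Matrix.adjugate_fin_succ_eq_det_submatrix, det_fin_three, Fin.succAbove, Fin.rev, Matrix.vecMul, dotProduct, CharTwo.neg_eq] at e5 ⊢
  all_goals grind

/-- The exceptional endomorphism squares to the Frobenius. -/
theorem gHom_gHom (s : Sp2) : ((gHom (gHom s) : Sp2) : Matrix I2 I2 F) = (s : Matrix I2 I2 F).map (fun x => x ^ 2) := by
  show gMat (gHom s) = _
  rw [gMat, show ((gHom s : Sp2) : Matrix I2 I2 F) = gMat s from rfl, gMat, Matrix.submatrix_submatrix,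
    Equiv.self_comp_symm, Matrix.submatrix_id_id]
  have h := star4_star4 (toSp4 s).2
  rw [toSp4_coe] at h
  rw [h, Matrix.submatrix_map, Matrix.submatrix_submatrix]
  simp

end Cfsg.Agent.AutPSp
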