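import Mathlib

/-!
The fundamental theorem of projective geometry on a coordinate space of dimension at least three over a
finite field, for maps given on representing vectors.
-/

set_option autoImplicit false

namespace Cfsg.Agent.AutPSp

universe u v

variable {F : Type u} [Field F] {ι : Type v}

/-- `y` is a non-zero multiple of `x`. -/
def Prop₁ (x y : ι → F) : Prop := ∃ c : F, c ≠ 0 ∧ y = c • x

theorem Prop₁.symm {x y : ι → F} (h : Prop₁ x y) : Prop₁ y x := by
  obtain ⟨c, hc, rfl⟩ := h
  exact ⟨c⁻¹, inv_ne_zero hc, by rw [smul_smul, inv_mul_cancel₀ hc, one_smul]⟩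

theorem Prop₁.trans {x y z : ι → F} (h : Prop₁ x y) (h' : Prop₁ y z) : Prop₁ x z := by
  obtain ⟨c, hc, rfl⟩ := h
  obtain ⟨d, hd, rfl⟩ := h'
  exact ⟨d * c, mul_ne_zero hd hc, by rw [smul_smul]⟩

/-- A map of projective points, given on representatives, preserving collinearity. -/
structure Collineation (f : (ι → F) → (ι → F)) : Prop where
  ne : ∀ x, x ≠ 0 → f x ≠ 0
  inj : ∀ x y, x ≠ 0 → y ≠ 0 → Prop₁ (f x) (f y) → Prop₁ x y
  surj : ∀ y, y ≠ 0 → ∃ x, x ≠ 0 ∧ Prop₁ y (f x)
  line : ∀ x y z, x ≠ 0 → y ≠ 0 → z ≠ 0 → (∃ a b : F, z = a • x + b • y) →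
    ∃ a b : F, f z = a • f x + b • f y

variable {f : (ι → F) → (ι → F)}

theorem Collineation.congr (h : Collineation f) {x y : ι → F} (hx : x ≠ 0) (hxy : Prop₁ x y) :
    Prop₁ (f x) (f y) := by
  obtain ⟨c, hc, rfl⟩ := hxy
  have hy : c • x ≠ 0 := smul_ne_zero hc hx
  obtain ⟨a, b, hab⟩ := h.line x x (c • x) hx hx hy ⟨c, 0, by simp⟩
  rw [← add_smul] at hab
  exact ⟨a + b, fun e => h.ne _ hy (by rw [hab, e, zero_smul]), hab⟩

theorem Collineation.comp_equiv (h : Collineation f) (g : (ι → F) ≃ₗ[F] (ι → F)) :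
    Collineation fun x => g (f x) := by
  refine ⟨fun x hx => by simpa using h.ne x hx, fun x y hx hy hxy => h.inj x y hx hy ?_, fun y hy => ?_,
    fun x y z hx hy hz hl => ?_⟩
  · obtain ⟨c, hc, e⟩ := hxy
    exact ⟨c, hc, g.injective (by rw [e, map_smul])⟩
  · obtain ⟨x, hx, c, hc, e⟩ := h.surj (g.symm y) (by simpa using hy)
    exact ⟨x, hx, c, hc, by show g (f x) = _; rw [e, map_smul, g.apply_symm_apply]⟩
  · obtain ⟨a, b, e⟩ := h.line x y z hx hy hz hl
    exact ⟨a, b, by show g (f z) = _; rw [e, map_add, map_smul, map_smul]⟩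

/-- A subspace closed condition: a set of points spanning. -/
theorem Collineation.mem_span (h : Collineation f) [Fintype ι] [DecidableEq ι] :
    ∀ (s : Finset ι) (x : ι → F), x ≠ 0 → (∀ i ∉ s, x i = 0) →
      f x ∈ Submodule.span F ((fun i => f (Pi.single i 1)) '' (s : Set ι)) := by
  intro s
  induction s using Finset.induction with
  | empty => exact fun x hx h0 => absurd (funext fun i => h0 i (Finset.notMem_empty i)) hx
  | insert i s hi ih =>
    intro x hx h0
    have hmono : Submodule.span F ((fun j => f (Pi.single j 1)) '' (s : Set ι)) ≤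
        Submodule.span F ((fun j => f (Pi.single j 1)) '' (↑(insert i s) : Set ι)) :=
      Submodule.span_mono (Set.image_mono (Finset.coe_subset.2 (Finset.subset_insert i s)))
    have hei : f (Pi.single i 1) ∈ Submodule.span F ((fun j => f (Pi.single j 1)) '' (↑(insert i s) : Set ι)) :=
      Submodule.subset_span ⟨i, Finset.mem_coe.2 (Finset.mem_insert_self i s), rfl⟩
    set y := Function.update x i 0 with hy
    have hdec : x = (1 : F) • y + x i • Pi.single i 1 := by
      funext j
      rcases eq_or_ne j i with rfl | hj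
      · simp [hy]
      · simp [hy, hj]
    have hy0 : ∀ j ∉ s, y j = 0 := fun j hj => by
      rcases eq_or_ne j i with rfl | hji
      · simp [hy]
      · rw [hy, Function.update_of_ne hji]
        exact h0 j (by simp [hji, hj])
    by_cases hyz : y = 0
    · have hxi : x i ≠ 0 := fun e => hx (by rw [hdec, hyz, e]; simp)
      have := h.congr (x := Pi.single i 1) (by simp) (y := x) ⟨x i, hxi, by rw [hdec, hyz]; simp⟩
      obtain ⟨c, -, e⟩ := this
      rw [e]; exact Submodule.smul_mem _ _ hei
    · obtain ⟨a, b, e⟩ := h.line y (Pi.single i 1) x hyz (by simp) hx ⟨1, x i, hdec⟩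
      rw [e]
      exact Submodule.add_mem _ (Submodule.smul_mem _ _ (hmono (ih y hyz hy0))) (Submodule.smul_mem _ _ hei)

/-- The images of the standard basis form a basis. -/
theorem Collineation.exists_equiv (h : Collineation f) [Fintype ι] [DecidableEq ι] :
    ∃ g : (ι → F) ≃ₗ[F] (ι → F), ∀ i, g (Pi.single i 1) = f (Pi.single i 1) := by
  let L : (ι → F) →ₗ[F] (ι → F) := Fintype.linearCombination F fun i => f (Pi.single i 1)
  have hsurj : Function.Surjective L := by
    rw [← LinearMap.range_eq_top, eq_top_iff]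
    intro y _
    by_cases hy : y = 0
    · rw [hy]; exact Submodule.zero_mem _
    obtain ⟨x, hx, c, hc, e⟩ := h.surj y hy
    have h2 := h.mem_span Finset.univ x hx (fun i hi => absurd (Finset.mem_univ i) hi)
    rw [Finset.coe_univ, Set.image_univ, ← Fintype.range_linearCombination] at h2
    rw [show y = c⁻¹ • f x by rw [e, smul_smul, inv_mul_cancel₀ hc, one_smul]]
    exact Submodule.smul_mem _ _ h2
  refine ⟨LinearEquiv.ofBijective L ⟨LinearMap.injective_iff_surjective.2 hsurj, hsurj⟩, fun i => ?_⟩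
  show L (Pi.single i 1) = _
  simp [L]

/-- A point with one coordinate `1` and lying on the line through two others. -/
theorem Collineation.normalize (h : Collineation f) {x y z X Y : ι → F} (hx : x ≠ 0) (hy : y ≠ 0) (hz : z ≠ 0)
    (hl : ∃ a b : F, z = a • x + b • y) (hX : Prop₁ (f x) X) (hY : Prop₁ (f y) Y) :
    ∃ a b : F, f z = a • X + b • Y := by
  obtain ⟨a, b, e⟩ := h.line x y z hx hy hz hl
  obtain ⟨c, hc, rfl⟩ := hX
  obtain ⟨d, hd, rfl⟩ := hY
  exact ⟨a * c⁻¹, b * d⁻¹, by rw [e, smul_smul, smul_smul, mul_assoc, inv_mul_cancel₀ hc, mul_one, mul_assoc,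
    inv_mul_cancel₀ hd, mul_one]⟩

section Normalised

variable [Fintype ι] [DecidableEq ι] {o : ι}
  (h : Collineation f) (hbase : ∀ i, Prop₁ (f (Pi.single i 1)) (Pi.single i 1))
  (hone : ∀ i, i ≠ o → Prop₁ (f (Pi.single o 1 + Pi.single i 1)) (Pi.single o 1 + Pi.single i 1))

include h hbase in
theorem supp {x : ι → F} (hx : x ≠ 0) (i : ι) (hi : x i = 0) : f x i = 0 := by
  have hs := h.mem_span (Finset.univ.erase i) x hx fun j hj => by
    rw [show j = i by simpa using hj]; exact hi
  refine Submodule.span_induction (p := fun y _ => y i = 0) ?_ rfl (fun a b _ _ ha hb => by simp [ha, hb])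
    (fun c a _ ha => by simp [ha]) hs
  rintro _ ⟨j, hj, rfl⟩
  obtain ⟨c, hc, e⟩ := hbase j
  have hji : j ≠ i := (Finset.mem_erase.1 (Finset.mem_coe.1 hj)).1
  have := congrFun e i
  simp [hji.symm] at this
  exact this.resolve_left hc

include h hbase in
/-- The coordinate map on the line through `e_o` and `e_i`. -/
theorem exists_coord (i : ι) (hi : i ≠ o) (t : F) :
    ∃ s : F, Prop₁ (f (Pi.single o 1 + t • Pi.single i 1)) (Pi.single o 1 + s • Pi.single i 1) := by
  set x : ι → F := Pi.single o 1 + t • Pi.single i 1 with hx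
  have hx0 : x ≠ 0 := fun e => by
    have := congrFun e o
    simp [hx, hi.symm] at this
  obtain ⟨a, b, e⟩ := h.normalize (z := x) (x := Pi.single o 1) (y := Pi.single i 1) (by simp) (by simp) hx0
    ⟨1, t, by rw [hx, one_smul]⟩ (hbase o) (hbase i)
  have ha : a ≠ 0 := fun ha => by
    rw [ha, zero_smul, zero_add] at e
    have hb : b ≠ 0 := fun hb => h.ne x hx0 (by rw [e, hb, zero_smul])
    have h1 : Prop₁ (f x) (f (Pi.single i 1)) := by
      refine Prop₁.trans ⟨b⁻¹, inv_ne_zero hb, ?_⟩ (hbase i).symm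
      rw [e, smul_smul, inv_mul_cancel₀ hb, one_smul]
    obtain ⟨c, hc, e'⟩ := h.inj x _ hx0 (by simp) h1
    have := congrFun e' o
    simp [hx, hi.symm] at this
    exact hc this.symm
  exact ⟨b / a, a⁻¹, inv_ne_zero ha, by
    rw [e, smul_add, smul_smul, smul_smul, inv_mul_cancel₀ ha, one_smul, ← div_eq_inv_mul]⟩

include h hbase in
/-- Affine points map coordinatewise. -/
theorem affine (S : ι → F → F) (hS : ∀ i, i ≠ o → ∀ t,
      Prop₁ (f (Pi.single o 1 + t • Pi.single i 1)) (Pi.single o 1 + S i t • Pi.single i 1))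
    (hS0 : ∀ i, i ≠ o → S i 0 = 0) :
    ∀ (s : Finset ι) (x : ι → F), x o = 1 → (∀ i ∉ s, i ≠ o → x i = 0) →
      Prop₁ (f x) (fun i => if i = o then 1 else S i (x i)) := by
  have hne : ∀ x : ι → F, x o = 1 → x ≠ 0 := fun x hx e => by rw [e] at hx; simp at hx
  have honly : ∀ (i : ι) (x : ι → F), x o = 1 → i ≠ o → (∀ j, j ≠ o → j ≠ i → x j = 0) →
      Prop₁ (f x) (fun j => if j = o then 1 else S j (x j)) := by
    intro i x hxo hi hz
    have hx : x = Pi.single o 1 + x i • Pi.single i 1 := by
      funext j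
      rcases eq_or_ne j o with rfl | hj
      · simp [hxo, hi.symm]
      · rcases eq_or_ne j i with rfl | hji
        · simp [hj]
        · simp [hj, hji, hz j hj hji]
    have hh := hS i hi (x i)
    rw [← hx] at hh
    have e : (Pi.single o 1 + S i (x i) • Pi.single i 1 : ι → F) = fun j => if j = o then 1 else S j (x j) := by
      funext j
      rcases eq_or_ne j o with rfl | hj
      · simp [hi.symm]
      · rcases eq_or_ne j i with rfl | hji
        · simp [hj]
        · simp [hj, hji, hz j hj hji, hS0 j hj]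
    rwa [e] at hh
  intro s
  induction s using Finset.induction with
  | empty =>
    intro x hxo hz
    have hx : x = Pi.single o 1 := by
      funext j
      rcases eq_or_ne j o with rfl | hj
      · simp [hxo]
      · simp [hj, hz j (Finset.notMem_empty j) hj]
    have e : (Pi.single o 1 : ι → F) = fun j => if j = o then 1 else S j (x j) := by
      funext j
      rcases eq_or_ne j o with rfl | hj
      · simp
      · simp [hj, hz j (Finset.notMem_empty j) hj, hS0 j hj]
    rw [← e, hx]
    exact hbase o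
  | insert i s his ih =>
    intro x hxo hz
    by_cases hio : i = o
    · exact ih x hxo fun j hj hjo => hz j (by simp [hj, hio ▸ hjo]) hjo
    by_cases hall : ∀ j, j ≠ o → j ≠ i → x j = 0
    · exact honly i x hxo hio hall
    push Not at hall
    obtain ⟨k, hko, hki, hk⟩ := hall
    -- delete the coordinate `i`
    set y := Function.update x i 0 with hy
    have hyo : y o = 1 := by rw [hy, Function.update_of_ne (Ne.symm hio)]; exact hxo
    have hYp := ih y hyo fun j hj hjo => by
      rcases eq_or_ne j i with rfl | hji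
      · simp [hy]
      · rw [hy, Function.update_of_ne hji]; exact hz j (by simp [hj, hji]) hjo
    obtain ⟨a, b, e⟩ := h.normalize (z := x) (x := y) (y := Pi.single i 1) (hne y hyo) (by simp) (hne x hxo)
      ⟨1, x i, by
        funext j
        rcases eq_or_ne j i with rfl | hji
        · simp [hy]
        · simp [hy, hji]⟩ hYp (hbase i)
    -- the point supported at `o` and `i`
    set z : ι → F := Pi.single o 1 + x i • Pi.single i 1 with hzdef
    set w : ι → F := Function.update (Function.update x o 0) i 0 with hw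
    have hzo : z o = 1 := by simp [hzdef, Ne.symm hio]
    have hw0 : w ≠ 0 := fun e' => hk (by have := congrFun e' k; simpa [hw, hki, hko] using this)
    have hxw : x = (1 : F) • z + (1 : F) • w := by
      funext j
      rcases eq_or_ne j i with rfl | hji
      · simp [hzdef, hw, hio]
      · rcases eq_or_ne j o with rfl | hjo
        · simp [hzdef, hw, hji, hxo]
        · simp [hzdef, hw, hji, hjo]
    obtain ⟨a', b', e'⟩ := h.line z w x (hne z hzo) hw0 (hne x hxo) ⟨1, 1, hxw⟩
    obtain ⟨c, hc, hze⟩ := hS i hio (x i)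
    rw [← hzdef] at hze
    have hwo : f w o = 0 := supp h hbase hw0 o (by simp [hw, Ne.symm hio])
    have hwi : f w i = 0 := supp h hbase hw0 i (by simp [hw])
    have hzo' : c * f z o = 1 := by
      have := congrFun hze o
      simpa [Ne.symm hio] using this.symm
    have hzi' : c * f z i = S i (x i) := by
      have := congrFun hze i
      simpa [hio] using this.symm
    have eo : f x o = a := by rw [e]; simp [Ne.symm hio]
    have eo' : f x o = a' * f z o := by rw [e']; simp [hwo]
    have ei : f x i = b := by rw [e]; simp [hio, hy, hS0 i hio]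
    have ei' : f x i = a' * f z i := by rw [e']; simp [hwi]
    have hb : b = a * S i (x i) := by
      rw [← ei, ei', ← hzi', ← eo, eo']
      linear_combination (-(a' * f z i)) * hzo'
    have ha : a ≠ 0 := fun ha => h.ne x (hne x hxo) (by rw [e, hb, ha]; simp)
    refine ⟨a⁻¹, inv_ne_zero ha, ?_⟩
    funext j
    rw [e, hb]
    rcases eq_or_ne j i with rfl | hji
    · simp [hio, hy, hS0 _ hio, ← mul_assoc, ha]
    · rcases eq_or_ne j o with rfl | hjo
      · simp [Ne.symm hio, ha]
      · simp [hji, hjo, hy, ← mul_assoc, ha]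

include h hbase hone in
theorem exists_sigma [Fintype F] (hι : 3 ≤ Fintype.card ι) :
    ∃ σ : F ≃+* F, ∀ x : ι → F, x ≠ 0 → Prop₁ (f x) (fun i => σ (x i)) := by
  classical
  choose S hS using fun (i : ι) (hi : i ≠ o) (t : F) => exists_coord h hbase i hi t
  let T : ι → F → F := fun i t => if hi : i ≠ o then S i hi t else 0
  have hT : ∀ i, i ≠ o → ∀ t, Prop₁ (f (Pi.single o 1 + t • Pi.single i 1)) (Pi.single o 1 + T i t • Pi.single i 1) :=
    fun i hi t => by simp only [T, dif_pos hi]; exact hS i hi t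
  have huniq : ∀ i, i ≠ o → ∀ (y : ι → F) (s s' : F), Prop₁ y (Pi.single o 1 + s • Pi.single i 1) →
      Prop₁ y (Pi.single o 1 + s' • Pi.single i 1) → s = s' := by
    intro i hi y s s' h1 h2
    obtain ⟨c, -, e⟩ := h1.symm.trans h2
    have eo := congrFun e o
    have ei := congrFun e i
    simp [hi, hi.symm] at eo ei
    rw [← eo, one_mul] at ei
    exact ei.symm
  have hT0 : ∀ i, i ≠ o → T i 0 = 0 := fun i hi => by
    refine huniq i hi _ _ _ (hT i hi 0) ?_
    simpa using hbase o
  have hT1 : ∀ i, i ≠ o → T i 1 = 1 := fun i hi => by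
    refine huniq i hi _ _ _ (hT i hi 1) ?_
    simpa using hone i hi
  have hTinj : ∀ i, i ≠ o → Function.Injective (T i) := fun i hi s t e => by
    have h1 := (hT i hi s).trans (e ▸ (hT i hi t).symm)
    have hne : ∀ r : F, (Pi.single o 1 + r • Pi.single i 1 : ι → F) ≠ 0 := fun r e => by
      have := congrFun e o; simp [hi.symm] at this
    obtain ⟨c, -, e'⟩ := h.inj _ _ (hne s) (hne t) h1
    have eo := congrFun e' o
    have ei := congrFun e' i
    simp [hi, hi.symm] at eo ei
    rw [← eo, one_mul] at ei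
    exact ei.symm
  have haff : ∀ x : ι → F, x o = 1 → Prop₁ (f x) (fun i => if i = o then 1 else T i (x i)) :=
    fun x hx => affine h hbase T hT hT0 Finset.univ x hx fun i hi => absurd (Finset.mem_univ i) hi
  -- points at infinity
  have hinf : ∀ x : ι → F, x ≠ 0 → x o = 0 → Prop₁ (f x) (fun i => if i = o then 0 else T i (x i)) := by
    intro x hx hxo
    have hy : (Pi.single o 1 + x : ι → F) o = 1 := by simp [hxo]
    have hyne : (Pi.single o 1 + x : ι → F) ≠ 0 := fun e => by rw [e] at hy; simp at hy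
    obtain ⟨a, b, e⟩ := h.normalize (z := x) (x := Pi.single o 1) (y := Pi.single o 1 + x) (by simp) hyne hx
      ⟨-1, 1, by simp⟩ (hbase o) (haff _ hy)
    have eo : a + b = 0 := by
      have := congrFun e o
      rw [supp h hbase hx o hxo] at this
      simpa using this.symm
    have e2 : f x = b • fun i => if i = o then 0 else T i (x i) := by
      rw [e]
      funext i
      rcases eq_or_ne i o with rfl | hi
      · simpa using eo
      · simp [hi]
    have hb : b ≠ 0 := fun hb => h.ne x hx (by rw [e2, hb, zero_smul])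
    exact ⟨b⁻¹, inv_ne_zero hb, by rw [e2, smul_smul, inv_mul_cancel₀ hb, one_smul]⟩
  -- three coordinates
  obtain ⟨i₀, hi₀⟩ : ∃ i, i ≠ o := Fintype.exists_ne_of_one_lt_card (by omega) o
  -- products
  have hmul : ∀ i j, i ≠ o → j ≠ o → i ≠ j → ∀ s t, T j (s * t) = T i s * T j t := by
    intro i j hi hj hij s t
    set d : ι → F := Pi.single i 1 + t • Pi.single j 1 with hd
    have hdo : d o = 0 := by simp [hd, hi.symm, hj.symm]
    have hd0 : d ≠ 0 := fun e => by
      have := congrFun e i
      simp [hd, hij] at this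
    set p : ι → F := Pi.single o 1 + s • d with hp
    have hpo : p o = 1 := by simp [hp, hdo]
    have hpne : p ≠ 0 := fun e => by rw [e] at hpo; simp at hpo
    obtain ⟨a, b, e⟩ := h.normalize (z := p) (x := Pi.single o 1) (y := d) (by simp) hd0 hpne
      ⟨1, s, by rw [hp, one_smul]⟩ (hbase o) (hinf d hd0 hdo)
    obtain ⟨c, hc, e'⟩ := haff p hpo
    have e1 := congrFun e' o
    have e2 := congrFun e' i
    have e3 := congrFun e' j
    rw [e] at e1 e2 e3
    simp [hp, hd, hi, hi.symm, hj, hj.symm, hij, hij.symm, hT1 i hi] at e1 e2 e3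
    rw [e3, e2]; ring
  have hsame : ∀ i j, i ≠ o → j ≠ o → T i = T j := by
    intro i j hi hj
    rcases eq_or_ne i j with rfl | hij
    · rfl
    · funext s
      have := hmul i j hi hj hij s 1
      rw [mul_one, hT1 j hj, mul_one] at this
      exact this.symm
  obtain ⟨j₀, hj₀, hij₀⟩ : ∃ j, j ≠ o ∧ j ≠ i₀ := by
    obtain ⟨j, hj⟩ := Finset.card_pos.1 (show 0 < ((Finset.univ.erase o).erase i₀).card by
      rw [Finset.card_erase_of_mem (Finset.mem_erase.2 ⟨hi₀, Finset.mem_univ _⟩),
        Finset.card_erase_of_mem (Finset.mem_univ _), Finset.card_univ]; omega)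
    exact ⟨j, (Finset.mem_erase.1 (Finset.mem_erase.1 hj).2).1, (Finset.mem_erase.1 hj).1⟩
  set τ := T i₀
  have hTτ : ∀ i, i ≠ o → T i = τ := fun i hi => hsame i i₀ hi hi₀
  have hτmul : ∀ s t, τ (s * t) = τ s * τ t := fun s t => by
    have := hmul i₀ j₀ hi₀ hj₀ hij₀.symm s t
    rwa [hTτ j₀ hj₀] at this
  have hτadd : ∀ s t, τ (s + t) = τ s + τ t := by
    intro s t
    set d : ι → F := t • Pi.single i₀ 1 + Pi.single j₀ 1 with hd
    have hdo : d o = 0 := by simp [hd, hi₀.symm, hj₀.symm]
    have hd0 : d ≠ 0 := fun e => by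
      have := congrFun e j₀
      simp [hd, hij₀] at this
    set q : ι → F := Pi.single o 1 + s • Pi.single i₀ 1 with hq
    set p : ι → F := q + d with hp
    have hqo : q o = 1 := by simp [hq, hi₀.symm]
    have hpo : p o = 1 := by simp [hp, hqo, hdo]
    have hqne : q ≠ 0 := fun e => by rw [e] at hqo; simp at hqo
    have hpne : p ≠ 0 := fun e => by rw [e] at hpo; simp at hpo
    obtain ⟨a, b, e⟩ := h.normalize (z := p) (x := q) (y := d) hqne hd0 hpne
      ⟨1, 1, by rw [hp, one_smul, one_smul]⟩ (haff q hqo) (hinf d hd0 hdo)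
    obtain ⟨c, hc, e'⟩ := haff p hpo
    have e1 := congrFun e' o
    have e2 := congrFun e' i₀
    have e3 := congrFun e' j₀
    rw [e] at e1 e2 e3
    simp [hp, hq, hd, hi₀, hi₀.symm, hj₀, hj₀.symm, hij₀, hij₀.symm, hTτ j₀ hj₀,
      show τ 1 = 1 from hT1 i₀ hi₀, show τ 0 = 0 from hT0 i₀ hi₀] at e1 e2 e3
    linear_combination e2 - τ s * e1 - τ t * e3
  let σh : F →+* F :=
    { toFun := τ, map_one' := hT1 i₀ hi₀, map_mul' := hτmul, map_zero' := hT0 i₀ hi₀, map_add' := hτadd }
  let σ : F ≃+* F := RingEquiv.ofBijective σh ⟨hTinj i₀ hi₀, Finite.surjective_of_injective (hTinj i₀ hi₀)⟩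
  refine ⟨σ, fun x hx => ?_⟩
  have hσ : ∀ t, σ t = τ t := fun t => rfl
  by_cases hxo : x o = 0
  · have e := hinf x hx hxo
    refine e.trans ⟨1, one_ne_zero, funext fun i => ?_⟩
    rcases eq_or_ne i o with rfl | hi
    · simp [hxo]
    · simp [hi, hTτ i hi, hσ]
  · have hy : ((x o)⁻¹ • x) o = 1 := by simp [hxo]
    have e := (h.congr hx ⟨(x o)⁻¹, inv_ne_zero hxo, rfl⟩).trans (haff _ hy)
    refine e.trans ⟨σ (x o), by simpa using hxo, funext fun i => ?_⟩
    rcases eq_or_ne i o with rfl | hi
    · simp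
    · simp only [Pi.smul_apply, smul_eq_mul, if_neg hi, hTτ i hi]
      rw [← hσ, ← map_mul, ← mul_assoc, mul_inv_cancel₀ hxo, one_mul]

end Normalised

/-- **Fundamental theorem of projective geometry.** -/
theorem exists_semilinear [Fintype ι] [DecidableEq ι] [Fintype F] (hι : 3 ≤ Fintype.card ι) (h : Collineation f) :
    ∃ (g : (ι → F) ≃ₗ[F] (ι → F)) (σ : F ≃+* F), ∀ x, x ≠ 0 → Prop₁ (f x) (g fun i => σ (x i)) := by
  obtain ⟨o⟩ : Nonempty ι := Fintype.card_pos_iff.1 (by omega)
  obtain ⟨g₀, hg₀⟩ := h.exists_equiv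
  have h₁ := h.comp_equiv g₀.symm
  have hb₁ : ∀ i, g₀.symm (f (Pi.single i 1)) = Pi.single i 1 := fun i => by
    rw [← hg₀, g₀.symm_apply_apply]
  have hcoef : ∀ i, i ≠ o → ∃ a b : F, a ≠ 0 ∧ b ≠ 0 ∧
      g₀.symm (f (Pi.single o 1 + Pi.single i 1)) = a • Pi.single o 1 + b • Pi.single i 1 := by
    intro i hi
    set z : ι → F := Pi.single o 1 + Pi.single i 1 with hz
    have hz0 : z ≠ 0 := fun e => by have := congrFun e o; simp [hz, hi.symm] at this
    obtain ⟨a, b, e⟩ := h₁.line (Pi.single o 1) (Pi.single i 1) z (by simp) (by simp) hz0 ⟨1, 1, by simp [hz]⟩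
    simp only [hb₁] at e
    have key : ∀ (k l : ι) (r : F), k ≠ l → g₀.symm (f z) = r • Pi.single k 1 → z l = 1 → False := by
      intro k l r hkl er hzl
      have hr : r ≠ 0 := fun e0 => h₁.ne z hz0 (by show g₀.symm (f z) = 0; rw [er, e0, zero_smul])
      obtain ⟨c, hc, e'⟩ := h₁.inj (Pi.single k 1) z (by simp) hz0 ⟨r, hr, by
        show g₀.symm (f z) = r • g₀.symm (f _); rw [hb₁]; exact er⟩
      have := congrFun e' l
      rw [hzl] at this
      simp [hkl.symm] at this
    refine ⟨a, b, fun ha => key i o b hi ?_ (by simp [hz, hi.symm]), fun hb => key o i a hi.symm ?_ (by simp [hz, hi]),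
      e⟩
    · rw [e, ha, zero_smul, zero_add]
    · rw [e, hb, zero_smul, add_zero]
  choose a b ha hb hab using hcoef
  let d : ι → Fˣ := fun i => if hi : i = o then 1 else Units.mk0 (b i hi / a i hi) (div_ne_zero (hb i hi) (ha i hi))
  let D : (ι → F) ≃ₗ[F] (ι → F) :=
    { toFun := fun x i => (↑(d i)⁻¹ : F) * x i
      invFun := fun x i => (d i : F) * x i
      left_inv := fun x => funext fun i => by simp [← mul_assoc]
      right_inv := fun x => funext fun i => by simp [← mul_assoc]
      map_add' := fun x y => funext fun i => by simp [mul_add]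
      map_smul' := fun c x => funext fun i => by simp [mul_left_comm] }
  have h₂ := h₁.comp_equiv D
  have hD : ∀ (i : ι) (c : F), D (Pi.single i c) = Pi.single i ((↑(d i)⁻¹ : F) * c) := fun i c => funext fun j => by
    show (↑(d j)⁻¹ : F) * (Pi.single i c : ι → F) j = _
    rcases eq_or_ne j i with rfl | hji
    · simp
    · simp [hji]
  obtain ⟨σ, hσ⟩ := exists_sigma (o := o) h₂
    (fun i => ⟨(d i : F), (d i).ne_zero, by
      show _ = (d i : F) • D (g₀.symm (f (Pi.single i 1)))
      rw [hb₁, hD, ← Pi.single_smul, smul_eq_mul, mul_one, Units.mul_inv]⟩)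
    (fun i hi => ⟨(a i hi)⁻¹, inv_ne_zero (ha i hi), by
      show _ = _ • D (g₀.symm (f _))
      rw [hab i hi, map_add, map_smul, map_smul, hD, hD, smul_add, smul_smul, smul_smul,
        inv_mul_cancel₀ (ha i hi), one_smul]
      congr 1
      · simp [d]
      · have := ha i hi
        have := hb i hi
        simp [d, dif_neg hi, ← Pi.single_smul]
        field_simp⟩)
    hι
  refine ⟨D.symm.trans g₀, σ, fun x hx => ?_⟩
  obtain ⟨c, hc, e⟩ := hσ x hx
  refine ⟨c, hc, ?_⟩
  show g₀ (D.symm fun i => σ (x i)) = c • f x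
  rw [e, map_smul, map_smul, D.symm_apply_apply, g₀.apply_symm_apply]

end Cfsg.Agent.AutPSp
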