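import Cfsg.Agent.Lib.AutPSp.Card
import Cfsg.Agent.Lib.Field.Fixed

/-!
An automorphism of `PSp` fixing the rational points of a subfield is a field automorphism.
-/

set_option autoImplicit false
set_option linter.unusedSectionVars false

namespace Cfsg.Agent.AutPSp

open Matrix Cfsg
open Cfsg.Agent.Forms (sympB)
open Cfsg.Agent.Fusion.SympBlocks

universe u

variable {m : ℕ} {F : Type u} [Field F] [Fintype F]

local notation "Vv" => (Fin m ⊕ Fin m → F)
local notation "M2" => Matrix (Fin m ⊕ Fin m) (Fin m ⊕ Fin m) F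
local notation "Sp" => Matrix.symplecticGroup (Fin m) F
local notation "GS" => Cfsg.GSp m F
local notation "B" => Forms.sympB m F

/-- A transvection group containing a transvection of the point `v` belongs to `v`. -/
theorem prop_of_tv_one_mem (hm : 2 ≤ m) {v w : Vv} (hv : v ≠ 0)
    (h : (QuotientGroup.mk (tv v 1) : PSp m F) ∈ root w) : Prop₁ v w := by
  obtain ⟨c, hc⟩ := mem_root.1 h
  obtain ⟨a, ha⟩ := exists_scalar (QuotientGroup.eq.1 hc)
  have e : ∀ x, (tv w c : M2) *ᵥ x = a • ((tv v 1 : M2) *ᵥ x) := fun x => by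
    rw [← Matrix.mulVec_smul, ← ha, Matrix.mulVec_mulVec, ← Submonoid.coe_mul, mul_inv_cancel_left]
  simp only [tv_apply, one_mul] at e
  obtain ⟨x, hxw, hxv⟩ := exists_perp_off hm v w
  have ha1 : a = 1 := by
    by_contra ha1
    have e1 := e x
    rw [hxw, mul_zero, zero_smul, add_zero, smul_add, smul_smul] at e1
    have h1 : (1 - a) ≠ 0 := sub_ne_zero.2 (Ne.symm ha1)
    refine hxv ((1 - a)⁻¹ * (a * B x v)) ?_
    rw [← smul_smul, ← show (1 - a) • x = (a * B x v) • v by
      rw [sub_smul, one_smul]; nth_rw 1 [e1]; abel, smul_smul, inv_mul_cancel₀ h1, one_smul]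
  subst ha1
  obtain ⟨y, hy⟩ := exists_B_ne hv
  have e1 := e y
  rw [one_smul, add_right_inj] at e1
  have hcy : c * B y w ≠ 0 := fun h0 => by
    rw [h0, zero_smul] at e1
    exact hy ((smul_eq_zero.1 e1.symm).resolve_right hv)
  exact ⟨(c * B y w)⁻¹ * B y v, mul_ne_zero (inv_ne_zero hcy) hy, by
    rw [← smul_smul, ← e1, smul_smul, inv_mul_cancel₀ hcy, one_smul]⟩

theorem cen_ne_tv (hm : 2 ≤ m) (t : F) {s : F} (hs : s ≠ 0) (v : Vv) (c : F) : (cen hm t s : Sp) ≠ tv v c := by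
  intro e
  obtain ⟨x, hx⟩ := e0_mem_range (F := F) hm t hs
  obtain ⟨y, hy⟩ := e1_mem_range (F := F) hm t hs
  rw [e, tv_apply, add_sub_cancel_left] at hx hy
  have h0 := congrFun hx (Sum.inl (ix0 hm))
  have h1 := congrFun hy (Sum.inl (ix1 hm))
  have h2 := congrFun hx (Sum.inl (ix1 hm))
  simp [e0, e1, (ix0_ne_ix1 hm).symm] at h0 h1 h2
  rcases h2 with (h2 | h2) | h2
  · rw [h2, zero_mul, zero_mul] at h0; exact zero_ne_one h0
  · rw [h2, mul_zero, zero_mul] at h0; exact zero_ne_one h0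
  · rw [h2, mul_zero] at h1; exact zero_ne_one h1

/-- An automorphism fixing a transvection permutes the transvection groups. -/
theorem mapsRoots_of_fix (hm : 2 ≤ m) (p : ℕ) [Fact p.Prime] [CharP F p] {a : MulAut (PSp m F)}
    (h : a (QuotientGroup.mk (tv (e0 hm) 1)) = QuotientGroup.mk (tv (e0 hm) 1)) :
    MapsRoots a ∧ MapsRoots a⁻¹ := by
  by_cases h22 : m = 2 ∧ p = 2
  · obtain ⟨rfl, rfl⟩ := h22
    rcases mapsRoots_or_graph a with h' | h'
    · exact h'
    · exfalso
      obtain ⟨w, hw, e⟩ := h'.1 (e0 hm) (e0_ne hm)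
      have hmem := e.le ⟨_, tv_mem_root (e0 hm) 1, rfl⟩
      obtain ⟨c, hc⟩ := mem_root.1 hmem
      change (graphQ : MulAut (PSp 2 F))⁻¹ (a (QuotientGroup.mk (tv (e0 hm) 1))) = _ at hc
      rw [h] at hc
      obtain ⟨k, hk⟩ := exists_sp_map (e0_ne (F := F) hm) hw
      have hc' := congrArg (graphQ : MulAut (PSp 2 F)) hc
      rw [MulAut.inv_def, MulEquiv.apply_symm_apply, ← hk, ← conj_tv, graphQ_mk, map_mul, map_mul, map_inv,
        gHom_tv] at hc'
      have e2 := mk_injective_char_two hm hc'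
      have e3 : (cen hm 0 c : Matrix.symplecticGroup (Fin 2) F) = (gHom k)⁻¹ * tv (e0 hm) 1 * (gHom k)⁻¹⁻¹ := by
        rw [e2]; group
      rw [conj_tv] at e3
      rcases eq_or_ne c 0 with rfl | hc0
      · rw [cen_eq_tv, tv_zero, eq_comm] at e3
        refine one_ne_zero ((tv_eq_one_iff ?_).1 e3)
        exact fun e0' => e0_ne hm (sp_inj _ e0')
      · exact cen_ne_tv hm 0 hc0 _ _ e3
  · have h4 : m = 2 → p ≠ 2 := fun hm2 hp => h22 ⟨hm2, hp⟩
    exact ⟨fun _ hv => exists_map_root hm p h4 a hv, fun _ hv => exists_map_root hm p h4 a⁻¹ hv⟩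

theorem mem_zpowers_of_fix (σ τ : F ≃+* F) (h : ∀ t : F, σ t = t → τ t = t) : τ ∈ Subgroup.zpowers σ := by
  classical
  haveI := FieldExt.finite_ringAut (F := F)
  let τ' : F ≃ₐ[FixedPoints.subfield (Subgroup.zpowers σ) F] F :=
    AlgEquiv.ofRingEquiv (f := τ) fun t => h _ (t.2 ⟨σ, Subgroup.mem_zpowers σ⟩)
  obtain ⟨g, hg⟩ := FixedPoints.toAlgAut_surjective (Subgroup.zpowers σ) F τ'
  have : (g : F ≃+* F) = τ := RingEquiv.ext fun t => DFunLike.congr_fun hg t
  exact this ▸ g.2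

/-- An automorphism fixing every rational transvection is a field automorphism fixing the subfield. -/
theorem eq_fieldQ_of_fix (hm : 2 ≤ m) (σ : F ≃+* F) {a : MulAut (PSp m F)}
    (ha : ∀ v : Vv, (σ ∘ v : Vv) = v →
      a (QuotientGroup.mk (tv v 1)) = QuotientGroup.mk (tv v 1)) :
    ∃ τ ∈ Subgroup.zpowers σ, a = fieldQ τ := by
  obtain ⟨p, hp⟩ := CharP.exists F
  haveI : Fact p.Prime := ⟨CharP.char_is_prime F p⟩
  have hsi : ∀ i, (σ ∘ (Pi.single i 1 : Vv) : Vv) = Pi.single i 1 := fun i => funext fun j => by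
    rcases eq_or_ne j i with rfl | hj <;> simp [*]
  obtain ⟨h1, h2⟩ := mapsRoots_of_fix hm p (ha (e0 hm) (hsi _))
  obtain ⟨g, τ, rfl⟩ := exists_decomposition_of hm h1 h2
  have hrat : ∀ v : Vv, (σ ∘ v : Vv) = v → v ≠ 0 → ∃ c : F, ((g.1 : GL (Fin m ⊕ Fin m) F) : M2) *ᵥ (τ ∘ v) = c • v := by
    intro v hv hv0
    have hmem : (QuotientGroup.mk (tv v 1) : PSp m F) ∈ root (((g.1 : GL (Fin m ⊕ Fin m) F) : M2) *ᵥ (τ ∘ v)) := by
      rw [← root_semilinear hm g τ hv0]
      exact ⟨_, tv_mem_root v 1, ha v hv⟩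
    obtain ⟨c, -, e⟩ := prop_of_tv_one_mem hm hv0 hmem
    exact ⟨c, e⟩
  have hti : ∀ i, (τ ∘ (Pi.single i 1 : Vv) : Vv) = Pi.single i 1 := fun i => funext fun j => by
    rcases eq_or_ne j i with rfl | hj <;> simp [*]
  have hdiag : ∀ i, ∃ c : F, ((g.1 : GL (Fin m ⊕ Fin m) F) : M2) *ᵥ (Pi.single i 1 : Vv) = c • Pi.single i 1 := by
    intro i
    obtain ⟨c, hc⟩ := hrat _ (hsi i) (by simp)
    rw [hti] at hc
    exact ⟨c, hc⟩
  choose d hd using hdiag
  -- the line through two basis points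
  have hline : ∀ i j, i ≠ j → ∀ t : F, σ t = t → d j * τ t = d i * t := by
    intro i j hij t ht
    obtain ⟨c, hc⟩ := hrat (Pi.single i 1 + t • Pi.single j 1) (by
        funext k
        have h1 := congrFun (hsi i) k
        have h2 := congrFun (hsi j) k
        simp only [Function.comp_apply] at h1 h2
        simp [h1, h2, ht])
      (fun e => by simpa [hij] using congrFun e i)
    rw [show (τ ∘ (Pi.single i 1 + t • Pi.single j 1) : Vv) = Pi.single i 1 + τ t • Pi.single j 1 by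
      funext k
      have h1 := congrFun (hti i) k
      have h2 := congrFun (hti j) k
      simp only [Function.comp_apply] at h1 h2
      simp [h1, h2], Matrix.mulVec_add, Matrix.mulVec_smul, hd, hd] at hc
    have h0 := congrFun hc i
    have h1 := congrFun hc j
    simp [hij, hij.symm] at h0 h1
    rw [h0]
    linear_combination h1
  have hdeq : ∀ i j, d i = d j := by
    intro i j
    rcases eq_or_ne i j with rfl | hij
    · rfl
    · have := hline i j hij 1 (map_one σ)
      rw [map_one, mul_one, mul_one] at this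
      exact this.symm
  set i0 : Fin m ⊕ Fin m := Sum.inl (ix0 hm)
  set i1 : Fin m ⊕ Fin m := Sum.inl (ix1 hm)
  have h01 : i0 ≠ i1 := fun e => ix0_ne_ix1 hm (Sum.inl_injective e)
  have hg : ∀ x : Vv, ((g.1 : GL (Fin m ⊕ Fin m) F) : M2) *ᵥ x = d i0 • x := by
    intro x
    have hM : ((g.1 : GL (Fin m ⊕ Fin m) F) : M2) = Matrix.diagonal fun _ => d i0 := by
      ext k l
      have := congrFun (hd l) k
      rw [Matrix.mulVec_single_one, hdeq l i0] at this
      rcases eq_or_ne k l with rfl | hkl <;> simpa [*] using this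
    funext k
    rw [hM, Matrix.mulVec_diagonal, Pi.smul_apply, smul_eq_mul]
  have hd0 : d i0 ≠ 0 := fun e => by
    have h' := congrArg (((g.1⁻¹ : GL (Fin m ⊕ Fin m) F) : M2) *ᵥ ·) (hg (e0 hm))
    simp only [e, zero_smul, Matrix.mulVec_zero, Matrix.mulVec_mulVec, Units.inv_mul, Matrix.one_mulVec] at h'
    exact e0_ne hm h'
  have hτ : ∀ t, σ t = t → τ t = t := fun t ht => by
    have := hline i0 i1 h01 t ht
    rw [hdeq i1 i0] at this
    exact mul_left_cancel₀ hd0 this
  refine ⟨τ, mem_zpowers_of_fix σ τ hτ, ?_⟩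
  rw [show g = scalGS (Units.mk0 _ hd0) from Subtype.ext (Units.ext (Matrix.ext_iff_mulVec.2 fun x => by
    rw [hg, scalGS_mulVec, Units.val_mk0])), conjQ_scalGS hm, one_mul]

end Cfsg.Agent.AutPSp
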