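import Cfsg.Agent.Lib.AutPSp.Transvection
import Cfsg.Agent.Lib.Fusion.SympNormalizer
import Cfsg.Agent.Lib.Fusion.UniTri

/-!
The unipotent Sylow subgroup of `PSp`, its centre, and the image of a transvection group under an automorphism.
-/

set_option autoImplicit false
set_option linter.unusedSectionVars false

namespace Cfsg.Agent.AutPSp

open Matrix Cfsg
open Cfsg.Agent.Fusion.SympBlocks
open Cfsg.Agent.Forms (sympB)

universe u

variable {m : ℕ} {F : Type u} [Field F] [Fintype F]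

local notation "Vv" => (Fin m ⊕ Fin m → F)
local notation "M2" => Matrix (Fin m ⊕ Fin m) (Fin m ⊕ Fin m) F
local notation "Mm" => Matrix (Fin m) (Fin m) F
local notation "Sp" => Matrix.symplecticGroup (Fin m) F
local notation "B" => Forms.sympB m F

/-- The first index. -/
def ix0 (hm : 2 ≤ m) : Fin m := ⟨0, by omega⟩

/-- The second index. -/
def ix1 (hm : 2 ≤ m) : Fin m := ⟨1, by omega⟩

theorem ix0_ne_ix1 (hm : 2 ≤ m) : ix0 hm ≠ ix1 hm := by simp [ix0, ix1]

/-- The first basis vector. -/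
def e0 (hm : 2 ≤ m) : Vv := Pi.single (Sum.inl (ix0 hm)) 1

theorem e0_ne (hm : 2 ≤ m) : (e0 hm : Vv) ≠ 0 := by simp [e0]

/-- The image of the unipotent subgroup. -/
def uniBar : Subgroup (PSp m F) := (spUni : Subgroup Sp).map (QuotientGroup.mk' (Subgroup.center Sp))

theorem mem_uniBar {x : PSp m F} : x ∈ uniBar ↔ ∃ u ∈ (spUni : Subgroup Sp), QuotientGroup.mk u = x := Iff.rfl

/-- The unipotent subgroup is a Sylow subgroup. -/
theorem spUni_maximal (hm : 0 < m) {p : ℕ} [Fact p.Prime] [CharP F p] {Q : Subgroup Sp} (hQ : IsPGroup p Q)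
    (hle : spUni ≤ Q) : Q = spUni := by
  haveI : Finite Q := inferInstance
  haveI : Group.IsNilpotent Q := hQ.isNilpotent
  by_contra hne
  have hlt : (spUni : Subgroup Sp).subgroupOf Q < ⊤ := by
    refine lt_top_iff_ne_top.2 fun h => hne (le_antisymm ?_ hle)
    rwa [Subgroup.subgroupOf_eq_top] at h
  obtain ⟨x, hx, hxn⟩ := SetLike.exists_of_lt
    (Group.normalizerCondition_of_isNilpotent ((spUni : Subgroup Sp).subgroupOf Q) hlt)
  have hxn' : (x : Sp) ∈ Subgroup.normalizer ((spUni : Subgroup Sp) : Set Sp) := by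
    rw [Subgroup.mem_normalizer_iff] at hx ⊢
    intro y
    constructor
    · intro hy
      have := (hx ⟨y, hle hy⟩).1 (by simpa [Subgroup.mem_subgroupOf] using hy)
      simpa [Subgroup.mem_subgroupOf] using this
    · intro hy
      have hyQ : y ∈ Q := by
        have := Q.mul_mem (Q.mul_mem (Q.inv_mem x.2) (hle hy)) x.2
        simpa [mul_assoc] using this
      have := (hx ⟨y, hyQ⟩).2 (by simpa [Subgroup.mem_subgroupOf] using hy)
      simpa [Subgroup.mem_subgroupOf] using this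
  have hb := mem_bor_of_normalizer hm hxn'
  obtain ⟨k, hk⟩ := hQ x
  have hk' : (x : Sp) ^ p ^ k = 1 := by simpa using congrArg Subtype.val hk
  refine hxn (Subgroup.mem_subgroupOf.2 ⟨hb, fun i => ?_⟩)
  have h1 : bA (x : Sp) i i ^ p ^ k = 1 := by
    rw [← bor_diag_pow hb, hk', bA_one, Matrix.one_apply_eq]
  have h2 := iterateFrobenius_inj F p k (a₁ := bA (x : Sp) i i) (a₂ := 1)
    (by simp only [iterateFrobenius_def, one_pow]; exact h1)
  exact h2

/-- The Sylow subgroup of `PSp`. -/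
noncomputable def sylowBar (hm : 0 < m) (p : ℕ) [Fact p.Prime] [CharP F p] : Sylow p (PSp m F) :=
  Sylow.mapSurjective (f := QuotientGroup.mk' (Subgroup.center Sp)) (QuotientGroup.mk'_surjective _)
    { toSubgroup := spUni
      isPGroup' := spUni_isPGroup p
      is_maximal' := fun hQ hle => spUni_maximal hm hQ hle }

theorem sylowBar_coe (hm : 0 < m) (p : ℕ) [Fact p.Prime] [CharP F p] :
    ((sylowBar hm p : Sylow p (PSp m F)) : Subgroup (PSp m F)) = uniBar := rfl

theorem center_inter_spUni (hm : 2 ≤ m) {z : Sp} (hz : z ∈ Subgroup.center Sp) (hu : z ∈ spUni) : z = 1 := by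
  haveI : Fact (2 ≤ m) := ⟨hm⟩
  obtain ⟨a, ha, rfl⟩ := center_eq hz
  have h := hu.2 (ix0 hm)
  simp [scal] at h
  subst h
  exact ext_blocks (by simp [scal]) (by simp [scal]) (by simp [scal]) (by simp [scal])

theorem mk_inj_spUni (hm : 2 ≤ m) {x y : Sp} (hx : x ∈ spUni) (hy : y ∈ spUni)
    (h : (QuotientGroup.mk x : PSp m F) = QuotientGroup.mk y) : x = y :=
  inv_mul_eq_one.1 (center_inter_spUni hm (QuotientGroup.eq.1 h) (mul_mem (inv_mem hx) hy))

/-- The symmetric matrices of central unipotent elements. -/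
def sS (hm : 2 ≤ m) (t s : F) : Mm := t • dE (ix0 hm) + s • pr (ix0 hm) (ix1 hm)

theorem sS_symm (hm : 2 ≤ m) (t s : F) : (sS hm t s)ᵀ = sS hm t s := by
  rw [sS, transpose_add, transpose_smul, transpose_smul, dE_transpose, pr_transpose]

/-- The candidates for central unipotent elements. -/
def cen (hm : 2 ≤ m) (t s : F) : Sp := sh (sS hm t s) (sS_symm hm t s)

theorem centre_spUni (hm : 2 ≤ m) {x : Sp} (hx : x ∈ spUni) (h : ∀ u ∈ (spUni : Subgroup Sp), x * u = u * x) :
    ∃ t s : F, 2 * s = 0 ∧ x = cen hm t s := by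
  haveI : Fact (2 ≤ m) := ⟨hm⟩
  obtain ⟨a, ha, hs⟩ := centralizer_siegel (X := x) (Subgroup.mem_centralizer_iff.2 fun u hu => (h u hu.1).symm)
  obtain rfl : a = 1 := by
    have h0 := hs.1.2 (ix0 hm)
    have h1 := hx.1.1
    simpa [scal, h1, hx.2] using h0
  rw [show (scal (1 : F) ha : Sp) = 1 from ext_blocks (by simp [scal]) (by simp [scal]) (by simp [scal])
    (by simp [scal]), one_mul] at hs
  obtain ⟨S, hS, rfl⟩ := exists_sh_of_mem_siegel hs
  have hSsym : ∀ a b, S a b = S b a := fun a b => (congrArg (fun M : Mm => M a b) hS).symm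
  have key : ∀ i j : Fin m, i < j → ∀ a b,
      (if a = i then S j b else 0) + (if b = i then S a j else 0) + (if a = i ∧ b = i then S j j else 0) = 0 := by
    intro i j hij a b
    set g : GL (Fin m) F := SpecialLinearGroup.toGL (SpecialLinearGroup.transvection hij.ne (1 : F))
    have hg : lev g ∈ (spUni : Subgroup Sp) :=
      levS_mem_spUni (Fusion.UniTri.transvection_mem_uni hij (1 : F))
    have h1 : lev g * sh S hS * (lev g)⁻¹ = sh S hS := by rw [← h _ hg, mul_inv_cancel_right]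
    rw [lev_conj_sh] at h1
    have h2 := congrArg (fun M : Mm => M a b) (congrArg bB h1)
    have hval : (g : Mm) = 1 + single i j 1 := by simp [g, SpecialLinearGroup.transvection_coe]
    simp only [sh, bB_ofBlocks, hval, transpose_add, transpose_one, transpose_single] at h2
    rw [show ((1 : Mm) + single i j 1) * S * (1 + single j i 1) =
        S + (single i j 1 * S + S * single j i 1 + single i j 1 * S * single j i 1) by
      simp only [add_mul, mul_add, one_mul, mul_one]; abel,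
      Matrix.add_apply, Matrix.add_apply, Matrix.add_apply, add_eq_left, Matrix.single_mul_mul_single] at h2
    have e1 : (single i j (1 : F) * S : Mm) a b = if a = i then S j b else 0 := by
      by_cases ha : a = i
      · subst ha; simp
      · simp [ha, Matrix.single_mul_apply_of_ne (h := ha)]
    have e2 : (S * single j i (1 : F) : Mm) a b = if b = i then S a j else 0 := by
      by_cases hb : b = i
      · subst hb; simp
      · simp [hb, Matrix.mul_single_apply_of_ne (hbj := hb)]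
    rw [e1, e2, Matrix.single_apply, one_mul, mul_one, if_congr (and_congr eq_comm eq_comm) rfl rfl] at h2
    exact h2
  have h01 : ix0 hm ≠ ix1 hm := ix0_ne_ix1 hm
  have hlt : ∀ j, j ≠ (ix0 hm) → (ix0 hm) < j := fun j hj =>
    lt_of_le_of_ne (Fin.le_def.2 (Nat.zero_le _)) (Ne.symm hj)
  -- off the first index the rows are supported at the first index
  have hrow : ∀ j b, j ≠ (ix0 hm) → b ≠ (ix0 hm) → S j b = 0 := fun j b hj hb => by
    simpa [hb] using key (ix0 hm) j (hlt j hj) (ix0 hm) b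
  have hfar : ∀ j, j ≠ (ix0 hm) → j ≠ (ix1 hm) → S j (ix0 hm) = 0 := fun j hj hj' => by
    have hlt1 : (ix1 hm) < j := by
      rw [Fin.lt_def]
      have h0 : (j : ℕ) ≠ 0 := fun e => hj (Fin.ext e)
      have h1 : (j : ℕ) ≠ 1 := fun e => hj' (Fin.ext e)
      show 1 < (j : ℕ); omega
    simpa [h01] using key (ix1 hm) j hlt1 (ix1 hm) (ix0 hm)
  refine ⟨S (ix0 hm) (ix0 hm), S (ix1 hm) (ix0 hm), ?_, sh_congr _ _ ?_⟩
  · have := key (ix0 hm) (ix1 hm) (hlt (ix1 hm) h01.symm) (ix0 hm) (ix0 hm)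
    rw [hrow (ix1 hm) (ix1 hm) h01.symm h01.symm] at this
    simp [hSsym (ix0 hm) (ix1 hm)] at this
    rw [two_mul]; exact this
  · ext a b
    simp only [sS, dE, pr, Matrix.add_apply, Matrix.smul_apply, smul_eq_mul, Matrix.single_apply]
    by_cases ha : a = (ix0 hm)
    · by_cases hb : b = (ix0 hm)
      · subst ha hb; simp [h01, h01.symm]
      · by_cases hb1 : b = (ix1 hm)
        · subst ha hb1; simp [h01, h01.symm, hSsym (ix0 hm) (ix1 hm)]
        · subst ha
          rw [hSsym, hfar b hb hb1]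
          simp [Ne.symm hb, Ne.symm hb1, h01.symm]
    · by_cases hb : b = (ix0 hm)
      · by_cases ha1 : a = (ix1 hm)
        · subst hb ha1; simp [h01, h01.symm]
        · subst hb
          rw [hfar a ha ha1]
          simp [Ne.symm ha, Ne.symm ha1, h01.symm]
      · rw [hrow a b ha hb]
        simp [Ne.symm ha, Ne.symm hb]

theorem cen_eq_tv (hm : 2 ≤ m) (t : F) : (cen hm t 0 : Sp) = tv (e0 hm) t := by
  refine ext_mulVec fun x => ?_
  rw [tv_apply, cen, sh, Fusion.SympBlocks.coe_eq, bA_ofBlocks, bB_ofBlocks, bC_ofBlocks, bD_ofBlocks,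
    Matrix.fromBlocks_mulVec]
  have hB : B x (e0 hm) = x (Sum.inr (ix0 hm)) := by
    rw [Forms.sympB_apply, Forms.sympForm_eq_sum, Finset.sum_eq_single (ix0 hm)] <;>
      simp +contextual [e0, Pi.single_apply]
  rw [hB]
  funext k
  rcases k with k | k
  · simp only [Sum.elim_inl, sS, zero_smul, add_zero, Pi.add_apply, Pi.smul_apply, smul_eq_mul, dE,
      Matrix.one_mulVec, Function.comp_apply, Matrix.smul_mulVec, Matrix.single_mulVec]
    rcases eq_or_ne k (ix0 hm) with rfl | hk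
    · simp [e0]
    · simp [e0, hk]
  · simp [e0]

theorem tv_e0_mem (hm : 2 ≤ m) (t : F) : tv (e0 hm) t ∈ (spUni : Subgroup Sp) :=
  cen_eq_tv (F := F) hm t ▸ sh_mem_spUni _

theorem spUni_fix_e0 (hm : 2 ≤ m) {u : Sp} (hu : u ∈ spUni) : (u : M2) *ᵥ e0 hm = e0 hm := by
  funext k
  simp only [e0, Matrix.mulVec_single_one, Matrix.col_apply]
  rcases k with k | k
  · rw [coe_apply_ll]
    rcases eq_or_ne k (ix0 hm) with rfl | hk
    · simp [hu.2]
    · rw [hu.1.2 k _ (lt_of_le_of_ne (Fin.le_def.2 (Nat.zero_le _)) (Ne.symm hk))]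
      simp [hk]
  · rw [coe_apply_rl, hu.1.1]
    simp

theorem tv_e0_central (hm : 2 ≤ m) (t : F) {u : Sp} (hu : u ∈ spUni) :
    tv (e0 hm) t * u = u * tv (e0 hm) t := by
  have h := conj_tv u (e0 hm) t
  rw [spUni_fix_e0 hm hu, mul_inv_eq_iff_eq_mul] at h
  exact h.symm

/-- Central elements of the Sylow subgroup of `PSp`. -/
theorem centre_uniBar (hm : 2 ≤ m) {x : PSp m F} (hx : x ∈ uniBar) (h : ∀ y ∈ (uniBar : Subgroup (PSp m F)), x * y = y * x) :
    ∃ t s : F, 2 * s = 0 ∧ x = QuotientGroup.mk (cen hm t s) := by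
  obtain ⟨u, hu, rfl⟩ := mem_uniBar.1 hx
  obtain ⟨t, s, hs, rfl⟩ := centre_spUni hm hu fun w hw => mk_inj_spUni hm (mul_mem hu hw) (mul_mem hw hu)
    (by rw [QuotientGroup.mk_mul, QuotientGroup.mk_mul]; exact h _ (mem_uniBar.2 ⟨w, hw, rfl⟩))
  exact ⟨t, s, hs, rfl⟩

theorem card_root {v : Vv} (hm : 2 ≤ m) (hv : v ≠ 0) : Nat.card (root v : Subgroup (PSp m F)) = Nat.card F := by
  refine (Nat.card_congr (MonoidHom.ofInjective (f := rootHom v) ?_).toEquiv).symm.trans
    (Nat.card_congr Multiplicative.toAdd)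
  refine (injective_iff_map_eq_one _).2 fun c hc => ?_
  obtain ⟨a, ha⟩ := exists_scalar (F := F) ((QuotientGroup.eq_one_iff _).1 hc)
  obtain ⟨x, hxv, hne⟩ := exists_perp_off hm (0 : Vv) v
  have e := ha x
  rw [tv_apply, hxv, mul_zero, zero_smul, add_zero] at e
  have ha1 : a = 1 := by
    by_contra ha1
    have h2 : (1 - a) • x = 0 := by rw [sub_smul, one_smul, ← e, sub_self]
    exact hne 0 (by rw [(smul_eq_zero.1 h2).resolve_left (sub_ne_zero.2 (Ne.symm ha1)), smul_zero])
  refine Multiplicative.toAdd.injective ((tv_eq_one_iff hv).1 (ext_mulVec fun y => ?_))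
  rw [ha y, ha1, one_smul, Submonoid.coe_one, Matrix.one_mulVec]

/-- Reduction of an automorphism to one fixing the Sylow subgroup. -/
theorem exists_fix (hm : 2 ≤ m) (p : ℕ) [Fact p.Prime] [CharP F p] (β : MulAut (PSp m F)) {v : Vv} (hv : v ≠ 0) :
    ∃ (h : Sp) (φ : MulAut (PSp m F)), (∀ y, y ∈ (uniBar : Subgroup (PSp m F)) → φ y ∈ uniBar) ∧
      (∀ y, y ∈ (uniBar : Subgroup (PSp m F)) → φ.symm y ∈ uniBar) ∧
      (root v).map β.toMonoidHom =
        ((root (e0 hm)).map φ.toMonoidHom).map (MulAut.conj (QuotientGroup.mk h : PSp m F)).toMonoidHom := by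
  obtain ⟨g, hg⟩ := exists_sp_map (e0_ne hm) hv
  let ψ : MulAut (PSp m F) := β * MulAut.conj (QuotientGroup.mk g : PSp m F)
  let P := sylowBar (F := F) (m := m) (by omega) p
  let Q : Sylow p (PSp m F) := P.mapSurjective (f := ψ.toMonoidHom) ψ.surjective
  obtain ⟨y, hy⟩ := MulAction.exists_smul_eq (PSp m F) P Q
  obtain ⟨h, rfl⟩ := QuotientGroup.mk_surjective y
  have hQ : (uniBar : Subgroup (PSp m F)).map (MulAut.conj (QuotientGroup.mk h : PSp m F)).toMonoidHom =
      (uniBar : Subgroup (PSp m F)).map ψ.toMonoidHom := by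
    have e := congrArg (fun R : Sylow p (PSp m F) => (R : Subgroup (PSp m F))) hy
    rw [Sylow.coe_subgroup_smul] at e
    exact e
  refine ⟨h, (MulAut.conj (QuotientGroup.mk h : PSp m F))⁻¹ * ψ, fun z hz => ?_, fun z hz => ?_, ?_⟩
  · obtain ⟨w, hw, e⟩ := hQ.ge (Subgroup.mem_map_of_mem ψ.toMonoidHom hz)
    show (MulAut.conj (QuotientGroup.mk h : PSp m F)).symm (ψ z) ∈ uniBar
    rw [← show (MulAut.conj (QuotientGroup.mk h : PSp m F)) w = ψ z from e, MulEquiv.symm_apply_apply]
    exact hw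
  · obtain ⟨w, hw, e⟩ := hQ.le (Subgroup.mem_map_of_mem (MulAut.conj (QuotientGroup.mk h : PSp m F)).toMonoidHom hz)
    show ψ.symm ((MulAut.conj (QuotientGroup.mk h : PSp m F)) z) ∈ uniBar
    rw [← show ψ w = (MulAut.conj (QuotientGroup.mk h : PSp m F)) z from e, MulEquiv.symm_apply_apply]
    exact hw
  · rw [← hg, ← root_conj, Subgroup.map_map, Subgroup.map_map]
    congr 1
    refine MonoidHom.ext fun z => ?_
    exact ((MulAut.conj (QuotientGroup.mk h : PSp m F)).apply_symm_apply (ψ z)).symm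

/-- An automorphism fixing the Sylow subgroup maps the transvections at the first point into the centre. -/
theorem exists_cen_image (hm : 2 ≤ m) {φ : MulAut (PSp m F)}
    (hφ : ∀ y, y ∈ (uniBar : Subgroup (PSp m F)) → φ y ∈ uniBar)
    (hφ' : ∀ y, y ∈ (uniBar : Subgroup (PSp m F)) → φ.symm y ∈ uniBar) (c : F) :
    ∃ t s : F, 2 * s = 0 ∧ φ (QuotientGroup.mk (tv (e0 hm) c)) = QuotientGroup.mk (cen hm t s) := by
  refine centre_uniBar hm (hφ _ (mem_uniBar.2 ⟨_, tv_e0_mem hm c, rfl⟩)) fun y hy => ?_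
  obtain ⟨u, hu, e⟩ := mem_uniBar.1 (hφ' y hy)
  rw [← φ.apply_symm_apply y, ← e, ← map_mul, ← map_mul, ← QuotientGroup.mk_mul, ← QuotientGroup.mk_mul,
    tv_e0_central hm c hu]

theorem map_root_e0_eq (hm : 2 ≤ m) {φ : MulAut (PSp m F)}
    (h : ∀ c : F, φ (QuotientGroup.mk (tv (e0 hm) c)) ∈ root (e0 hm : Vv)) :
    (root (e0 hm : Vv)).map φ.toMonoidHom = root (e0 hm : Vv) := by
  haveI : Finite (PSp m F) := inferInstance
  refine Subgroup.eq_of_le_of_card_ge ?_ (Subgroup.card_map_of_injective φ.injective).ge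
  rintro _ ⟨z, hz, rfl⟩
  obtain ⟨c, rfl⟩ := mem_root.1 hz
  exact h c

/-- Transvection groups go to transvection groups once this holds at the first point. -/
theorem exists_map_root_of (hm : 2 ≤ m) (p : ℕ) [Fact p.Prime] [CharP F p]
    (hfix : ∀ (φ : MulAut (PSp m F)) (c t s : F), s ≠ 0 → 2 * s = 0 →
      φ (QuotientGroup.mk (tv (e0 hm) c)) ≠ QuotientGroup.mk (cen hm t s))
    (β : MulAut (PSp m F)) {v : Vv} (hv : v ≠ 0) : ∃ w : Vv, w ≠ 0 ∧ (root v).map β.toMonoidHom = root w := by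
  obtain ⟨h, φ, hφ, hφ', e⟩ := exists_fix hm p β hv
  rw [map_root_e0_eq hm (fun c => ?_), root_conj] at e
  · exact ⟨_, fun e0' => e0_ne hm (sp_inj h e0'), e⟩
  · obtain ⟨t, s, hs, e⟩ := exists_cen_image hm hφ hφ' c
    by_cases h0 : s = 0
    · rw [e, h0, cen_eq_tv]
      exact tv_mem_root _ t
    · exact absurd e (hfix φ c t s h0 hs)

theorem mk_injective_char_two (hm : 2 ≤ m) [CharP F 2] :
    Function.Injective (QuotientGroup.mk : Sp → PSp m F) := by
  intro x y h
  haveI : Fact (2 ≤ m) := ⟨hm⟩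
  obtain ⟨a, ha, e⟩ := center_eq (QuotientGroup.eq.1 h)
  have h1 : (a - 1) * (a - 1) = 0 := by linear_combination ha - (a - 1) * (CharTwo.two_eq_zero (R := F))
  obtain rfl : a = 1 := by simpa [sub_eq_zero] using h1
  rw [show (scal (1 : F) ha : Sp) = 1 from ext_blocks (by simp [scal]) (by simp [scal]) (by simp [scal])
    (by simp [scal])] at e
  exact inv_mul_eq_one.1 e

end Cfsg.Agent.AutPSp
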