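import Cfsg.Agent.Lib.AutPSp.Basic
import Cfsg.Agent.Lib.AutPSp.ProjectiveGeom
import Cfsg.Agent.Lib.ClassicalSimple.SympMatrix

/-!
Symplectic transvections and transvection groups in `PSp`.
-/

set_option autoImplicit false
set_option linter.unusedSectionVars false

namespace Cfsg.Agent.AutPSp

open Matrix Cfsg
open Cfsg.Agent.Forms (sympB)

universe u

variable {m : ℕ} {F : Type u} [Field F]

local notation "Vv" => (Fin m ⊕ Fin m → F)
local notation "M2" => Matrix (Fin m ⊕ Fin m) (Fin m ⊕ Fin m) F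
local notation "Sp" => Matrix.symplecticGroup (Fin m) F
local notation "B" => Forms.sympB m F

theorem B_self (u : Vv) : B u u = 0 := Forms.sympB_isAlt m u

theorem B_swap (u v : Vv) : B v u = -B u v :=
  (LinearMap.BilinForm.IsAlt.neg_eq (Forms.sympB_isAlt m) u v).symm

theorem B_eq_zero_comm (u v : Vv) : B u v = 0 ↔ B v u = 0 := by rw [B_swap u v, neg_eq_zero]

theorem B_sep {v : Vv} (h : ∀ x, B x v = 0) : v = 0 := (Forms.sympB_nondegenerate m).2 v h

theorem exists_B_ne {v : Vv} (hv : v ≠ 0) : ∃ x, B x v ≠ 0 := by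
  by_contra! h
  exact hv (B_sep h)

theorem mem_sp_iff {A : M2} : A ∈ Matrix.symplecticGroup (Fin m) F ↔ ∀ u v, B (A *ᵥ u) (A *ᵥ v) = B u v := by
  simp only [Forms.sympB_apply]
  exact Forms.mem_symplecticGroup_iff_form

theorem B_sp (g : Sp) (u v : Vv) : B ((g : M2) *ᵥ u) ((g : M2) *ᵥ v) = B u v := mem_sp_iff.1 g.2 u v

theorem sp_inj (g : Sp) {u : Vv} (h : (g : M2) *ᵥ u = 0) : u = 0 := by
  refine B_sep fun x => ?_
  rw [← B_sp g, h, map_zero]

theorem ext_mulVec {s t : Sp} (h : ∀ x, (s : M2) *ᵥ x = (t : M2) *ᵥ x) : s = t :=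
  Subtype.ext (Matrix.ext_iff_mulVec.2 h)

/-- The transvection `x ↦ x + c B(x,v) v`. -/
def tv (v : Vv) (c : F) : Sp := ClassicalSimple.sympTransvectionElt v c

theorem tv_apply (v : Vv) (c : F) (x : Vv) : (tv v c : M2) *ᵥ x = x + (c * B x v) • v :=
  ClassicalSimple.sympTransvection_mulVec v c x

theorem tv_zero (v : Vv) : tv v 0 = (1 : Sp) := ext_mulVec fun x => by
  rw [tv_apply, zero_mul, zero_smul, add_zero, Submonoid.coe_one, Matrix.one_mulVec]

theorem tv_add (v : Vv) (c d : F) : tv v (c + d) = tv v c * tv v d := ext_mulVec fun x => by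
  rw [Submonoid.coe_mul, ← Matrix.mulVec_mulVec, tv_apply, tv_apply, tv_apply, map_add, LinearMap.add_apply,
    map_smul, LinearMap.smul_apply, B_self, smul_zero, add_zero, add_assoc, ← add_smul]
  congr 2; ring

theorem tv_smul (v : Vv) (a c : F) : tv (a • v) c = tv v (a * a * c) := ext_mulVec fun x => by
  rw [tv_apply, tv_apply, map_smul, smul_smul, smul_eq_mul]
  congr 2; ring

theorem conj_tv (g : Sp) (v : Vv) (c : F) : g * tv v c * g⁻¹ = tv ((g : M2) *ᵥ v) c := by
  rw [mul_inv_eq_iff_eq_mul]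
  refine ext_mulVec fun x => ?_
  rw [Submonoid.coe_mul, Submonoid.coe_mul, ← Matrix.mulVec_mulVec, ← Matrix.mulVec_mulVec, tv_apply, tv_apply,
    B_sp, Matrix.mulVec_add, Matrix.mulVec_smul]

theorem tv_comm {v w : Vv} (h : B v w = 0) (c d : F) : tv v c * tv w d = tv w d * tv v c := by
  have e := conj_tv (tv v c) w d
  rw [show (tv v c : M2) *ᵥ w = w by rw [tv_apply, (B_eq_zero_comm v w).1 h, mul_zero, zero_smul, add_zero],
    mul_inv_eq_iff_eq_mul] at e
  exact e

/-- A scalar central element. -/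
theorem exists_scalar {z : Sp} (hz : z ∈ Subgroup.center Sp) : ∃ a : F, ∀ x : Vv, (z : M2) *ᵥ x = a • x := by
  have key : ∀ v : Vv, v ≠ 0 → ∃ a : F, (z : M2) *ᵥ v = a • v := by
    intro v hv
    obtain ⟨x, hx⟩ := exists_B_ne hv
    have e := congrArg (fun s : Sp => (s : M2) *ᵥ x) (Subgroup.mem_center_iff.1 hz (tv v 1))
    simp only [Submonoid.coe_mul, ← Matrix.mulVec_mulVec, tv_apply, one_mul, Matrix.mulVec_add,
      Matrix.mulVec_smul, add_right_inj] at e
    exact ⟨(B x v)⁻¹ * B ((z : M2) *ᵥ x) v, by rw [← smul_smul, e, smul_smul, inv_mul_cancel₀ hx, one_smul]⟩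
  obtain ⟨c, hc⟩ := LinearMap.exists_eq_smul_id_of_forall_notLinearIndependent
    (f := Matrix.toLin' (z : M2)) fun v hli => by
      obtain ⟨a, ha⟩ := key v (hli.ne_zero 0)
      have := LinearIndependent.pair_iff.1 hli a (-1) (by
        rw [Matrix.toLin'_apply, ha, neg_one_smul, add_neg_cancel])
      exact neg_ne_zero.2 (one_ne_zero (α := F)) this.2
  exact ⟨c, fun x => by simpa using LinearMap.congr_fun hc x⟩

theorem mem_center_of_scalar {z : Sp} {a : F} (h : ∀ x : Vv, (z : M2) *ᵥ x = a • x) : z ∈ Subgroup.center Sp :=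
  Subgroup.mem_center_iff.2 fun g => ext_mulVec fun x => by
    rw [Submonoid.coe_mul, Submonoid.coe_mul, ← Matrix.mulVec_mulVec, ← Matrix.mulVec_mulVec, h, h,
      Matrix.mulVec_smul]

/-- A transvection group as a homomorphism to `PSp`. -/
def rootHom (v : Vv) : Multiplicative F →* PSp m F where
  toFun c := QuotientGroup.mk (tv v c.toAdd)
  map_one' := by rw [toAdd_one, tv_zero]; rfl
  map_mul' c d := by rw [toAdd_mul, tv_add]; rfl

/-- The transvection group of a point. -/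
def root (v : Vv) : Subgroup (PSp m F) := (rootHom v).range

theorem mem_root {v : Vv} {x : PSp m F} : x ∈ root v ↔ ∃ c, x = QuotientGroup.mk (tv v c) :=
  ⟨fun ⟨c, hc⟩ => ⟨c.toAdd, hc.symm⟩, fun ⟨c, hc⟩ => ⟨Multiplicative.ofAdd c, hc.symm⟩⟩

theorem tv_mem_root (v : Vv) (c : F) : (QuotientGroup.mk (tv v c) : PSp m F) ∈ root v := mem_root.2 ⟨c, rfl⟩

theorem root_congr {v w : Vv} (h : Prop₁ v w) : root v = root w := by
  obtain ⟨a, ha, rfl⟩ := h
  ext x
  simp only [mem_root, tv_smul]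
  constructor
  · rintro ⟨c, rfl⟩
    exact ⟨c / (a * a), by rw [mul_div_cancel₀ _ (mul_ne_zero ha ha)]⟩
  · rintro ⟨c, rfl⟩
    exact ⟨_, rfl⟩

theorem root_conj (g : Sp) (v : Vv) :
    (root v).map (MulAut.conj (QuotientGroup.mk g : PSp m F)).toMonoidHom = root ((g : M2) *ᵥ v) := by
  ext x
  constructor
  · rintro ⟨y, hy, rfl⟩
    obtain ⟨c, rfl⟩ := mem_root.1 hy
    refine mem_root.2 ⟨c, ?_⟩
    rw [← conj_tv, QuotientGroup.mk_mul, QuotientGroup.mk_mul, QuotientGroup.mk_inv]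
    rfl
  · intro hx
    obtain ⟨c, rfl⟩ := mem_root.1 hx
    refine ⟨_, tv_mem_root v c, ?_⟩
    rw [← conj_tv, QuotientGroup.mk_mul, QuotientGroup.mk_mul, QuotientGroup.mk_inv]
    rfl

/-- Some vector orthogonal to `w` lies off a given line. -/
theorem exists_perp_off (hm : 2 ≤ m) (v w : Vv) : ∃ x, B x w = 0 ∧ ∀ a : F, x ≠ a • v := by
  by_contra! h
  have hle : LinearMap.ker ((Forms.sympB m F).flip w) ≤ F ∙ v := fun x hx => by
    obtain ⟨a, ha⟩ := h x hx
    exact ha ▸ Submodule.smul_mem _ _ (Submodule.mem_span_singleton_self v)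
  have h1 := (Submodule.finrank_mono hle).trans (finrank_span_le_card ({v} : Set Vv))
  have h2 := LinearMap.finrank_range_add_finrank_ker ((Forms.sympB m F).flip w)
  have h3 := Submodule.finrank_le (LinearMap.range ((Forms.sympB m F).flip w))
  rw [Module.finrank_self] at h3
  rw [Module.finrank_fintype_fun_eq_card, Fintype.card_sum, Fintype.card_fin] at h2
  simp at h1
  omega

theorem root_inj (hm : 2 ≤ m) {v w : Vv} (hv : v ≠ 0) (hw : w ≠ 0) (h : root v = root w) : Prop₁ v w := by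
  obtain ⟨c, hc⟩ := mem_root.1 (h ▸ tv_mem_root v 1)
  obtain ⟨a, ha⟩ := exists_scalar (QuotientGroup.eq.1 hc)
  have e : ∀ x, (tv w c : M2) *ᵥ x = a • ((tv v 1 : M2) *ᵥ x) := fun x => by
    rw [← Matrix.mulVec_smul, ← ha, Matrix.mulVec_mulVec, ← Submonoid.coe_mul, mul_inv_cancel_left]
  simp only [tv_apply, one_mul] at e
  obtain ⟨x, hxw, hxv⟩ := exists_perp_off hm v w
  have ha1 : a = 1 := by
    by_contra ha1
    have e1 := e x
    rw [hxw, mul_zero, zero_smul, add_zero, smul_add, smul_smul] at e1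
    have h1 : (1 - a) ≠ 0 := sub_ne_zero.2 (Ne.symm ha1)
    refine hxv ((1 - a)⁻¹ * (a * B x v)) ?_
    rw [← smul_smul, ← show (1 - a) • x = (a * B x v) • v by
      rw [sub_smul, one_smul]; nth_rw 1 [e1]; abel, smul_smul, inv_mul_cancel₀ h1, one_smul]
  subst ha1
  obtain ⟨y, hy⟩ := exists_B_ne hv
  have e1 := e y
  rw [one_smul, add_right_inj] at e1
  have hcy : c * B y w ≠ 0 := fun h0 => by
    rw [h0, zero_smul] at e1
    exact hy ((smul_eq_zero.1 e1.symm).resolve_right hv)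
  exact ⟨(c * B y w)⁻¹ * B y v, mul_ne_zero (inv_ne_zero hcy) hy, by
    rw [← smul_smul, ← e1, smul_smul, inv_mul_cancel₀ hcy, one_smul]⟩

theorem root_commute_iff (hm : 2 ≤ m) {v w : Vv} (hv : v ≠ 0) (hw : w ≠ 0) :
    (∀ x ∈ root v, ∀ y ∈ root w, x * y = y * x) ↔ B v w = 0 := by
  constructor
  · intro h
    have hmap : (root w).map (MulAut.conj (QuotientGroup.mk (tv v 1) : PSp m F)).toMonoidHom = root w := by
      ext y
      constructor
      · rintro ⟨z, hz, rfl⟩
        show _ * z * _⁻¹ ∈ root w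
        rw [h _ (tv_mem_root v 1) z hz, mul_inv_cancel_right]; exact hz
      · intro hy
        refine ⟨y, hy, ?_⟩
        show _ * y * _⁻¹ = y
        rw [h _ (tv_mem_root v 1) y hy, mul_inv_cancel_right]
    rw [root_conj] at hmap
    have hne : (tv v 1 : M2) *ᵥ w ≠ 0 := fun e => hw (sp_inj _ e)
    obtain ⟨a, -, e⟩ := root_inj hm hne hw hmap
    by_contra hvw
    have e0 := congrArg (fun z => B v z) e
    simp only [tv_apply, one_mul, map_smul, map_add, smul_eq_mul, B_self, mul_zero, add_zero] at e0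
    have ha : a = 1 := by
      exact mul_right_cancel₀ hvw (by rw [one_mul]; exact e0.symm)
    rw [ha, one_smul, tv_apply, one_mul, left_eq_add, smul_eq_zero] at e
    rcases e with e | e
    · exact hvw ((B_eq_zero_comm v w).2 e)
    · exact hv e
  · intro h x hx y hy
    obtain ⟨c, rfl⟩ := mem_root.1 hx
    obtain ⟨d, rfl⟩ := mem_root.1 hy
    rw [← QuotientGroup.mk_mul, ← QuotientGroup.mk_mul, tv_comm h]

theorem exists_sp_map {v w : Vv} (hv : v ≠ 0) (hw : w ≠ 0) : ∃ g : Sp, (g : M2) *ᵥ v = w := by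
  obtain ⟨g, hg⟩ := Forms.exists_symplectic_map (m := m) (ι := Unit) (v := fun _ => v) (w := fun _ => w)
    (LinearIndependent.of_subsingleton () hv) (LinearIndependent.of_subsingleton () hw)
    (fun i j => by
      show sympForm m F w w = sympForm m F v v
      rw [← Forms.sympB_apply, ← Forms.sympB_apply, B_self, B_self])
  exact ⟨g, hg ()⟩

theorem tv_eq_one_iff {v : Vv} (hv : v ≠ 0) {c : F} : tv v c = (1 : Sp) ↔ c = 0 := by
  refine ⟨fun h => ?_, fun h => h ▸ tv_zero v⟩
  obtain ⟨x, hx⟩ := exists_B_ne hv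
  have e := congrArg (fun s : Sp => (s : M2) *ᵥ x) h
  simp only [tv_apply, Submonoid.coe_one, Matrix.one_mulVec, add_eq_left, smul_eq_zero, mul_eq_zero, hx, hv,
    or_false] at e
  exact e

end Cfsg.Agent.AutPSp
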